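import Mathlib
import Cfsg.Prelude.Def_G2

set_option autoImplicit false

namespace Cfsg.Agent.G2S

open Cfsg.Lie Matrix

variable {F : Type*} [CommRing F]

/-- The unit of the Zorn algebra. -/
def g2s_e (F : Type*) [CommRing F] : Fin 8 → F := ![1, 0, 0, 0, 0, 0, 0, 1]

/-- The norm. -/
def g2s_N (x : Fin 8 → F) : F := x 0 * x 7 - (x 1 * x 4 + x 2 * x 5 + x 3 * x 6)

/-- The trace. -/
def g2s_T (x : Fin 8 → F) : F := x 0 + x 7

/-- The polar form of the norm. -/
def g2s_B (x y : Fin 8 → F) : F :=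
  x 0 * y 7 + x 7 * y 0 - (x 1 * y 4 + x 4 * y 1 + x 2 * y 5 + x 5 * y 2 + x 3 * y 6 + x 6 * y 3)

/-- The conjugate. -/
def g2s_conj (x : Fin 8 → F) : Fin 8 → F := g2s_T x • g2s_e F - x

theorem g2s_mul_apply (x y : Fin 8 → F) :
    zornMul x y = ![x 0 * y 0 + (x 1 * y 4 + x 2 * y 5 + x 3 * y 6),
      x 0 * y 1 + y 7 * x 1 - (x 5 * y 6 - x 6 * y 5),
      x 0 * y 2 + y 7 * x 2 - (x 6 * y 4 - x 4 * y 6),
      x 0 * y 3 + y 7 * x 3 - (x 4 * y 5 - x 5 * y 4),
      y 0 * x 4 + x 7 * y 4 + (x 2 * y 3 - x 3 * y 2),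
      y 0 * x 5 + x 7 * y 5 + (x 3 * y 1 - x 1 * y 3),
      y 0 * x 6 + x 7 * y 6 + (x 1 * y 2 - x 2 * y 1),
      (x 4 * y 1 + x 5 * y 2 + x 6 * y 3) + x 7 * y 7] := by
  unfold zornMul
  simp [dot3, cross3, zA, zB]

theorem g2s_e_mul (x : Fin 8 → F) : zornMul (g2s_e F) x = x := by
  rw [g2s_mul_apply]
  ext i
  fin_cases i <;> simp [g2s_e]

theorem g2s_mul_e (x : Fin 8 → F) : zornMul x (g2s_e F) = x := by
  rw [g2s_mul_apply]
  ext i
  fin_cases i <;> simp [g2s_e]

theorem g2s_N_mul (x y : Fin 8 → F) : g2s_N (zornMul x y) = g2s_N x * g2s_N y := by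
  rw [g2s_mul_apply]
  simp only [g2s_N, Matrix.cons_val_zero, Matrix.cons_val_one, Matrix.cons_val]
  ring

theorem g2s_add_mul (x x' y : Fin 8 → F) :
    zornMul (x + x') y = zornMul x y + zornMul x' y := by
  simp only [g2s_mul_apply]
  ext i
  fin_cases i <;> simp <;> ring

theorem g2s_mul_add (x y y' : Fin 8 → F) :
    zornMul x (y + y') = zornMul x y + zornMul x y' := by
  simp only [g2s_mul_apply]
  ext i
  fin_cases i <;> simp <;> ring

theorem g2s_smul_mul (c : F) (x y : Fin 8 → F) : zornMul (c • x) y = c • zornMul x y := by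
  simp only [g2s_mul_apply]
  ext i
  fin_cases i <;> simp <;> ring

theorem g2s_mul_smul (c : F) (x y : Fin 8 → F) : zornMul x (c • y) = c • zornMul x y := by
  simp only [g2s_mul_apply]
  ext i
  fin_cases i <;> simp <;> ring

/-- The quadratic equation `x² - T(x) x + N(x) e = 0`. -/
theorem g2s_sq (x : Fin 8 → F) :
    zornMul x x = g2s_T x • x - g2s_N x • g2s_e F := by
  simp only [g2s_mul_apply]
  ext i
  fin_cases i <;> simp [g2s_T, g2s_N, g2s_e] <;> ring

/-- Left alternative law. -/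
theorem g2s_alt_left (x y : Fin 8 → F) : zornMul (zornMul x x) y = zornMul x (zornMul x y) := by
  simp only [g2s_mul_apply]
  ext i
  fin_cases i <;> simp <;> ring

/-- Right alternative law. -/
theorem g2s_alt_right (x y : Fin 8 → F) : zornMul (zornMul y x) x = zornMul y (zornMul x x) := by
  simp only [g2s_mul_apply]
  ext i
  fin_cases i <;> simp <;> ring

/-- Flexible law. -/
theorem g2s_flex (x y : Fin 8 → F) : zornMul (zornMul x y) x = zornMul x (zornMul y x) := by
  simp only [g2s_mul_apply]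
  ext i
  fin_cases i <;> simp <;> ring

theorem g2s_N_add (x y : Fin 8 → F) : g2s_N (x + y) = g2s_N x + g2s_N y + g2s_B x y := by
  simp only [g2s_N, g2s_B, Pi.add_apply]
  ring

theorem g2s_N_smul (c : F) (x : Fin 8 → F) : g2s_N (c • x) = c ^ 2 * g2s_N x := by
  simp only [g2s_N, Pi.smul_apply, smul_eq_mul]
  ring

theorem g2s_B_comm (x y : Fin 8 → F) : g2s_B x y = g2s_B y x := by
  simp only [g2s_B]
  ring

theorem g2s_T_eq_B (x : Fin 8 → F) : g2s_T x = g2s_B x (g2s_e F) := by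
  simp [g2s_T, g2s_B, g2s_e]

theorem g2s_N_e : g2s_N (g2s_e F) = 1 := by
  simp [g2s_N, g2s_e]

theorem g2s_T_e : g2s_T (g2s_e F) = 2 := by
  simp [g2s_T, g2s_e]
  norm_num

/-- `x x̄ = N(x) e`. -/
theorem g2s_mul_conj (x : Fin 8 → F) : zornMul x (g2s_conj x) = g2s_N x • g2s_e F := by
  unfold g2s_conj
  rw [sub_eq_add_neg, g2s_mul_add, g2s_mul_smul, g2s_mul_e]
  have : zornMul x (-x) = -zornMul x x := by
    have := g2s_mul_smul (-1 : F) x x
    simpa using this
  rw [this, g2s_sq]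
  abel

theorem g2s_conj_mul (x : Fin 8 → F) : zornMul (g2s_conj x) x = g2s_N x • g2s_e F := by
  unfold g2s_conj
  rw [sub_eq_add_neg, g2s_add_mul, g2s_smul_mul, g2s_e_mul]
  have : zornMul (-x) x = -zornMul x x := by
    have := g2s_smul_mul (-1 : F) x x
    simpa using this
  rw [this, g2s_sq]
  abel

/-- `B(xy, xz) = N(x) B(y, z)`. -/
theorem g2s_B_mul_left (x y z : Fin 8 → F) :
    g2s_B (zornMul x y) (zornMul x z) = g2s_N x * g2s_B y z := by
  simp only [g2s_mul_apply, g2s_B, g2s_N, Matrix.cons_val_zero, Matrix.cons_val_one,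
    Matrix.cons_val]
  ring

theorem g2s_B_mul_right (x y z : Fin 8 → F) :
    g2s_B (zornMul y x) (zornMul z x) = g2s_N x * g2s_B y z := by
  simp only [g2s_mul_apply, g2s_B, g2s_N, Matrix.cons_val_zero, Matrix.cons_val_one,
    Matrix.cons_val]
  ring

/-- `B(xy, z) = B(y, x̄ z)`. -/
theorem g2s_B_adj_left (x y z : Fin 8 → F) :
    g2s_B (zornMul x y) z = g2s_B y (zornMul (g2s_conj x) z) := by
  simp only [g2s_mul_apply, g2s_B, g2s_conj, g2s_T, g2s_e, Matrix.cons_val_zero,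
    Matrix.cons_val_one, Matrix.cons_val, Pi.sub_apply, Pi.smul_apply, smul_eq_mul]
  ring

theorem g2s_B_adj_right (x y z : Fin 8 → F) :
    g2s_B (zornMul y x) z = g2s_B y (zornMul z (g2s_conj x)) := by
  simp only [g2s_mul_apply, g2s_B, g2s_conj, g2s_T, g2s_e, Matrix.cons_val_zero,
    Matrix.cons_val_one, Matrix.cons_val, Pi.sub_apply, Pi.smul_apply, smul_eq_mul]
  ring

/-- Middle Moufang identity `(xy)(zx) = x((yz)x)`. -/
theorem g2s_moufang_mid (x y z : Fin 8 → F) :
    zornMul (zornMul x y) (zornMul z x) = zornMul x (zornMul (zornMul y z) x) := by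
  simp only [g2s_mul_apply]
  ext i
  fin_cases i <;> simp <;> ring

/-- Left Moufang identity `x(y(xz)) = ((xy)x)z`. -/
theorem g2s_moufang_left (x y z : Fin 8 → F) :
    zornMul x (zornMul y (zornMul x z)) = zornMul (zornMul (zornMul x y) x) z := by
  simp only [g2s_mul_apply]
  ext i
  fin_cases i <;> simp <;> ring

/-- Right Moufang identity `((zx)y)x = z(x(yx))`. -/
theorem g2s_moufang_right (x y z : Fin 8 → F) :
    zornMul (zornMul (zornMul z x) y) x = zornMul z (zornMul x (zornMul y x)) := by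
  simp only [g2s_mul_apply]
  ext i
  fin_cases i <;> simp <;> ring

end Cfsg.Agent.G2S
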