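import Mathlib
import Cfsg.Agent.G2S.Oct

set_option autoImplicit false

/-!
Further identities in Zorn's vector-matrix algebra: conjugation, trace, the bilinear form and the
inverse laws.
-/

namespace Cfsg.Agent.G2S

open Cfsg.Lie Matrix

variable {F : Type*} [CommRing F]

theorem g2s_conj_apply (x : Fin 8 → F) :
    g2s_conj x = ![x 7, -x 1, -x 2, -x 3, -x 4, -x 5, -x 6, x 0] := by
  ext i
  fin_cases i <;> simp [g2s_conj, g2s_T, g2s_e]

theorem g2s_conj_conj (x : Fin 8 → F) : g2s_conj (g2s_conj x) = x := by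
  simp only [g2s_conj_apply]
  ext i
  fin_cases i <;> simp

theorem g2s_conj_add (x y : Fin 8 → F) : g2s_conj (x + y) = g2s_conj x + g2s_conj y := by
  simp only [g2s_conj_apply]
  ext i
  fin_cases i <;> simp <;> ring

theorem g2s_conj_smul (c : F) (x : Fin 8 → F) : g2s_conj (c • x) = c • g2s_conj x := by
  simp only [g2s_conj_apply]
  ext i
  fin_cases i <;> simp

theorem g2s_conj_e : g2s_conj (g2s_e F) = g2s_e F := by
  simp only [g2s_conj_apply]
  ext i
  fin_cases i <;> simp [g2s_e]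

/-- `(xy)‾ = ȳ x̄`. -/
theorem g2s_conj_mul_rev (x y : Fin 8 → F) :
    g2s_conj (zornMul x y) = zornMul (g2s_conj y) (g2s_conj x) := by
  simp only [g2s_conj_apply, g2s_mul_apply]
  ext i
  fin_cases i <;> simp <;> ring

theorem g2s_N_conj (x : Fin 8 → F) : g2s_N (g2s_conj x) = g2s_N x := by
  simp only [g2s_conj_apply, g2s_N, Matrix.cons_val_zero, Matrix.cons_val_one, Matrix.cons_val]
  ring

theorem g2s_T_conj (x : Fin 8 → F) : g2s_T (g2s_conj x) = g2s_T x := by
  simp only [g2s_conj_apply, g2s_T, Matrix.cons_val_zero, Matrix.cons_val]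
  ring

theorem g2s_T_add (x y : Fin 8 → F) : g2s_T (x + y) = g2s_T x + g2s_T y := by
  simp only [g2s_T, Pi.add_apply]
  ring

theorem g2s_T_smul (c : F) (x : Fin 8 → F) : g2s_T (c • x) = c * g2s_T x := by
  simp only [g2s_T, Pi.smul_apply, smul_eq_mul]
  ring

/-- `T(xy) = T(yx)`. -/
theorem g2s_T_mul_comm (x y : Fin 8 → F) : g2s_T (zornMul x y) = g2s_T (zornMul y x) := by
  simp only [g2s_mul_apply, g2s_T, Matrix.cons_val_zero, Matrix.cons_val]
  ring

/-- `T((xy)z) = T(x(yz))`. -/
theorem g2s_T_mul_assoc (x y z : Fin 8 → F) :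
    g2s_T (zornMul (zornMul x y) z) = g2s_T (zornMul x (zornMul y z)) := by
  simp only [g2s_mul_apply, g2s_T, Matrix.cons_val_zero, Matrix.cons_val_one, Matrix.cons_val]
  ring

/-- `B(x, y) = T(x ȳ)`. -/
theorem g2s_B_eq_T (x y : Fin 8 → F) : g2s_B x y = g2s_T (zornMul x (g2s_conj y)) := by
  simp only [g2s_conj_apply, g2s_mul_apply, g2s_T, g2s_B, Matrix.cons_val_zero,
    Matrix.cons_val_one, Matrix.cons_val]
  ring

theorem g2s_B_add_left (x x' y : Fin 8 → F) : g2s_B (x + x') y = g2s_B x y + g2s_B x' y := by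
  simp only [g2s_B, Pi.add_apply]
  ring

theorem g2s_B_add_right (x y y' : Fin 8 → F) : g2s_B x (y + y') = g2s_B x y + g2s_B x y' := by
  simp only [g2s_B, Pi.add_apply]
  ring

theorem g2s_B_smul_left (c : F) (x y : Fin 8 → F) : g2s_B (c • x) y = c * g2s_B x y := by
  simp only [g2s_B, Pi.smul_apply, smul_eq_mul]
  ring

theorem g2s_B_smul_right (c : F) (x y : Fin 8 → F) : g2s_B x (c • y) = c * g2s_B x y := by
  simp only [g2s_B, Pi.smul_apply, smul_eq_mul]
  ring

theorem g2s_B_self (x : Fin 8 → F) : g2s_B x x = 2 * g2s_N x := by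
  simp only [g2s_B, g2s_N]
  ring

/-- Non-degeneracy of the polar form. -/
theorem g2s_B_nondeg {x : Fin 8 → F} (h : ∀ y, g2s_B x y = 0) : x = 0 := by
  ext i
  fin_cases i
  · have := h (Pi.single 7 1); simpa [g2s_B] using this
  · have := h (Pi.single 4 1); simpa [g2s_B] using this
  · have := h (Pi.single 5 1); simpa [g2s_B] using this
  · have := h (Pi.single 6 1); simpa [g2s_B] using this
  · have := h (Pi.single 1 1); simpa [g2s_B] using this
  · have := h (Pi.single 2 1); simpa [g2s_B] using this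
  · have := h (Pi.single 3 1); simpa [g2s_B] using this
  · have := h (Pi.single 0 1); simpa [g2s_B] using this

/-- `x̄ (x y) = N(x) y`. -/
theorem g2s_conj_mul_mul (x y : Fin 8 → F) :
    zornMul (g2s_conj x) (zornMul x y) = g2s_N x • y := by
  simp only [g2s_conj_apply, g2s_mul_apply]
  ext i
  fin_cases i <;> simp [g2s_N] <;> ring

/-- `x (x̄ y) = N(x) y`. -/
theorem g2s_mul_conj_mul (x y : Fin 8 → F) :
    zornMul x (zornMul (g2s_conj x) y) = g2s_N x • y := by
  simp only [g2s_conj_apply, g2s_mul_apply]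
  ext i
  fin_cases i <;> simp [g2s_N] <;> ring

/-- `(y x) x̄ = N(x) y`. -/
theorem g2s_mul_mul_conj (x y : Fin 8 → F) :
    zornMul (zornMul y x) (g2s_conj x) = g2s_N x • y := by
  simp only [g2s_conj_apply, g2s_mul_apply]
  ext i
  fin_cases i <;> simp [g2s_N] <;> ring

/-- `(y x̄) x = N(x) y`. -/
theorem g2s_mul_conj_mul' (x y : Fin 8 → F) :
    zornMul (zornMul y (g2s_conj x)) x = g2s_N x • y := by
  simp only [g2s_conj_apply, g2s_mul_apply]
  ext i
  fin_cases i <;> simp [g2s_N] <;> ring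

/-- The associator. -/
def g2s_assoc (x y z : Fin 8 → F) : Fin 8 → F :=
  zornMul (zornMul x y) z - zornMul x (zornMul y z)

/-- The associator is alternating: swapping the first two arguments changes the sign. -/
theorem g2s_assoc_swap12 (x y z : Fin 8 → F) : g2s_assoc x y z = -g2s_assoc y x z := by
  simp only [g2s_assoc, g2s_mul_apply]
  ext i
  fin_cases i <;> simp <;> ring

theorem g2s_assoc_swap23 (x y z : Fin 8 → F) : g2s_assoc x y z = -g2s_assoc x z y := by
  simp only [g2s_assoc, g2s_mul_apply]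
  ext i
  fin_cases i <;> simp <;> ring

/-- `x y + y x = T(x) y + T(y) x - B(x, y) e`. -/
theorem g2s_mul_add_mul (x y : Fin 8 → F) :
    zornMul x y + zornMul y x = g2s_T x • y + g2s_T y • x - g2s_B x y • g2s_e F := by
  simp only [g2s_mul_apply]
  ext i
  fin_cases i <;> simp [g2s_T, g2s_B, g2s_e] <;> ring

end Cfsg.Agent.G2S
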