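import Mathlib
import Cfsg.Prelude.Def_G2
import Cfsg.Agent.G2S.Oct2

set_option autoImplicit false

/-!
The Cayley–Dickson formulas in the split octonion algebra: for a subalgebra `H ∋ e` and an
element `a` orthogonal to `H`,
`x (y a) = (y x) a`, `(x a) y = (x ȳ) a`, `(x a)(y a) = -N(a) ȳ x` for `x, y ∈ H`;
and `H` is associative when the norm is non-degenerate on `H` and `N(a) ≠ 0`.
-/

namespace Cfsg.Agent.G2S

open Cfsg.Lie Matrix

variable {F : Type*} [CommRing F]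

/-- `u (v̄ w) + v (ū w) = B(u, v) w`. -/
theorem g2s_cd_lin1 (u v w : Fin 8 → F) :
    zornMul u (zornMul (g2s_conj v) w) + zornMul v (zornMul (g2s_conj u) w) =
      g2s_B u v • w := by
  simp only [g2s_mul_apply, g2s_B, g2s_conj, g2s_T, g2s_e]
  ext i
  fin_cases i <;> simp <;> ring

/-- `(w v̄) u + (w ū) v = B(u, v) w`. -/
theorem g2s_cd_lin2 (u v w : Fin 8 → F) :
    zornMul (zornMul w (g2s_conj v)) u + zornMul (zornMul w (g2s_conj u)) v =
      g2s_B u v • w := by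
  simp only [g2s_mul_apply, g2s_B, g2s_conj, g2s_T, g2s_e]
  ext i
  fin_cases i <;> simp <;> ring

/-- The linearised composition law. -/
theorem g2s_cd_lin3 (p q p' q' : Fin 8 → F) :
    g2s_B (zornMul p q) (zornMul p' q') + g2s_B (zornMul p q') (zornMul p' q) =
      g2s_B p p' * g2s_B q q' := by
  simp only [g2s_mul_apply, g2s_B, Matrix.cons_val_zero, Matrix.cons_val_one, Matrix.cons_val]
  ring

/-- `u v̄ + v ū = B(u, v) e`. -/
theorem g2s_cd_lin4 (u v : Fin 8 → F) :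
    zornMul u (g2s_conj v) + zornMul v (g2s_conj u) = g2s_B u v • g2s_e F := by
  simp only [g2s_mul_apply, g2s_B, g2s_conj, g2s_T, g2s_e]
  ext i
  fin_cases i <;> simp <;> ring

theorem g2s_cd_neg_mul (x y : Fin 8 → F) : zornMul (-x) y = -zornMul x y := by
  have := g2s_smul_mul (-1 : F) x y
  simpa using this

theorem g2s_cd_mul_neg (x y : Fin 8 → F) : zornMul x (-y) = -zornMul x y := by
  have := g2s_mul_smul (-1 : F) x y
  simpa using this

theorem g2s_cd_B_neg_right (x y : Fin 8 → F) : g2s_B x (-y) = -g2s_B x y := by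
  simp only [g2s_B, Pi.neg_apply]
  ring

section cd

variable {H : Submodule F (Fin 8 → F)} (he : g2s_e F ∈ H)
  (hmul : ∀ x ∈ H, ∀ y ∈ H, zornMul x y ∈ H)
  {a : Fin 8 → F} (ha : ∀ h ∈ H, g2s_B a h = 0)

include he in
theorem g2s_cd_conj_mem {x : Fin 8 → F} (hx : x ∈ H) : g2s_conj x ∈ H := by
  unfold g2s_conj
  exact Submodule.sub_mem _ (Submodule.smul_mem _ _ he) hx

include he ha in
theorem g2s_cd_T_a : g2s_T a = 0 := by
  rw [g2s_T_eq_B]
  exact ha _ he

include he ha in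
theorem g2s_cd_conj_a : g2s_conj a = -a := by
  unfold g2s_conj
  rw [g2s_cd_T_a he ha, zero_smul, zero_sub]

include he ha in
theorem g2s_cd_a_sq : zornMul a a = (-(g2s_N a)) • g2s_e F := by
  rw [g2s_sq, g2s_cd_T_a he ha, zero_smul, zero_sub, neg_smul]

include he ha in
/-- `a y = ȳ a`. -/
theorem g2s_cd_a_mul {y : Fin 8 → F} (hy : y ∈ H) :
    zornMul a y = zornMul (g2s_conj y) a := by
  have h1 := g2s_cd_lin4 a (g2s_conj y)
  rw [g2s_conj_conj, g2s_cd_conj_a he ha, ha _ (g2s_cd_conj_mem he hy), zero_smul,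
    g2s_cd_mul_neg] at h1
  exact eq_of_sub_eq_zero (by rw [sub_eq_add_neg]; exact h1)

include he ha in
/-- `y a = a ȳ`. -/
theorem g2s_cd_mul_a {y : Fin 8 → F} (hy : y ∈ H) :
    zornMul y a = zornMul a (g2s_conj y) := by
  rw [g2s_cd_a_mul he ha (g2s_cd_conj_mem he hy), g2s_conj_conj]

include he ha in
/-- `x (a w) = a (x̄ w)` for `x ∈ H` and any `w`. -/
theorem g2s_cd_mul_a_mul {x : Fin 8 → F} (hx : x ∈ H) (w : Fin 8 → F) :
    zornMul x (zornMul a w) = zornMul a (zornMul (g2s_conj x) w) := by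
  have h1 := g2s_cd_lin1 x (g2s_conj a) w
  rw [g2s_conj_conj, g2s_cd_conj_a he ha, g2s_cd_B_neg_right, g2s_B_comm, ha _ hx, neg_zero,
    zero_smul, g2s_cd_neg_mul] at h1
  exact eq_of_sub_eq_zero (by rw [sub_eq_add_neg]; exact h1)

include he hmul ha in
/-- `x (y a) = (y x) a`. -/
theorem g2s_cd1 {x y : Fin 8 → F} (hx : x ∈ H) (hy : y ∈ H) :
    zornMul x (zornMul y a) = zornMul (zornMul y x) a := by
  rw [g2s_cd_mul_a he ha hy, g2s_cd_mul_a_mul he ha hx,
    g2s_cd_a_mul he ha (hmul _ (g2s_cd_conj_mem he hx) _ (g2s_cd_conj_mem he hy)),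
    g2s_conj_mul_rev, g2s_conj_conj, g2s_conj_conj]

include he ha in
/-- `(x a) y = (x ȳ) a`. -/
theorem g2s_cd2 {y : Fin 8 → F} (x : Fin 8 → F) (hy : y ∈ H) :
    zornMul (zornMul x a) y = zornMul (zornMul x (g2s_conj y)) a := by
  have h1 := g2s_cd_lin2 y (g2s_conj a) x
  rw [g2s_conj_conj, g2s_cd_conj_a he ha, g2s_cd_B_neg_right, g2s_B_comm, ha _ hy, neg_zero,
    zero_smul, g2s_cd_mul_neg] at h1
  exact eq_of_sub_eq_zero (by rw [sub_eq_add_neg]; exact h1)

include he hmul ha in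
/-- `H a ⊥ H`. -/
theorem g2s_cd_B_mul_a {x h : Fin 8 → F} (hx : x ∈ H) (hh : h ∈ H) :
    g2s_B (zornMul x a) h = 0 := by
  rw [g2s_B_adj_left]
  exact ha _ (hmul _ (g2s_cd_conj_mem he hx) _ hh)

include he hmul ha in
theorem g2s_cd_conj_mul_a {y : Fin 8 → F} (hy : y ∈ H) :
    g2s_conj (zornMul y a) = -zornMul y a := by
  unfold g2s_conj
  rw [g2s_T_eq_B, g2s_cd_B_mul_a he hmul ha hy he, zero_smul, zero_sub]

include he hmul ha in
/-- `(x a)(y a) = -N(a) ȳ x`. -/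
theorem g2s_cd3 {x y : Fin 8 → F} (hx : x ∈ H) (hy : y ∈ H) :
    zornMul (zornMul x a) (zornMul y a) = (-(g2s_N a)) • zornMul (g2s_conj y) x := by
  have h1 := g2s_cd_lin2 (zornMul y a) (g2s_conj a) x
  rw [g2s_conj_conj, g2s_cd_conj_a he ha, g2s_cd_conj_mul_a he hmul ha hy, g2s_cd_mul_neg,
    g2s_cd_mul_neg, g2s_cd_neg_mul, neg_neg, g2s_cd1 he hmul ha hx hy, g2s_alt_right,
    g2s_cd_a_sq he ha, g2s_mul_smul, g2s_mul_e, g2s_cd_B_neg_right] at h1
  have h3 : g2s_B (zornMul y a) a = g2s_N a * g2s_T y := by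
    have := g2s_B_mul_right a y (g2s_e F)
    rw [g2s_e_mul] at this
    rw [this, g2s_T_eq_B]
  rw [h3] at h1
  have h4 : zornMul (g2s_conj y) x = g2s_T y • x - zornMul y x := by
    unfold g2s_conj
    rw [sub_eq_add_neg, g2s_add_mul, g2s_smul_mul, g2s_e_mul, g2s_cd_neg_mul, ← sub_eq_add_neg]
  rw [h4, smul_sub, smul_smul]
  have h5 : zornMul (zornMul x a) (zornMul y a) =
      (-(g2s_N a * g2s_T y)) • x - (-(g2s_N a)) • zornMul y x := by
    rw [← h1]
    abel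
  rw [h5]
  congr 1
  rw [neg_mul]

include he hmul ha in
/-- `B(x a, y a) = N(a) B(x, y)`. -/
theorem g2s_cd_B_mul_a_mul_a (x y : Fin 8 → F) :
    g2s_B (zornMul x a) (zornMul y a) = g2s_N a * g2s_B x y := g2s_B_mul_right a x y

include he hmul ha in
/-- `N(x + y a) = N(x) + N(y) N(a)`. -/
theorem g2s_cd_N {x y : Fin 8 → F} (hx : x ∈ H) (hy : y ∈ H) :
    g2s_N (x + zornMul y a) = g2s_N x + g2s_N y * g2s_N a := by
  rw [g2s_N_add, g2s_N_mul, g2s_B_comm, g2s_cd_B_mul_a he hmul ha hy hx, add_zero]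

include he hmul ha in
/-- The key identity behind associativity. -/
theorem g2s_cd_key (hNa : IsUnit (g2s_N a)) {x y u v : Fin 8 → F} (hx : x ∈ H) (hy : y ∈ H)
    (hu : u ∈ H) (hv : v ∈ H) :
    g2s_B (zornMul v x) (zornMul y (g2s_conj u)) =
      g2s_B (zornMul x u) (zornMul (g2s_conj v) y) := by
  have h1 := g2s_cd_lin3 x u (zornMul y a) (zornMul v a)
  rw [g2s_cd3 he hmul ha hy hv, g2s_cd1 he hmul ha hx hv, g2s_cd2 he ha y hu,
    g2s_B_mul_right, g2s_B_smul_right, g2s_B_comm x (zornMul y a),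
    g2s_cd_B_mul_a he hmul ha hy hx, zero_mul] at h1
  have h3 : g2s_N a * (g2s_B (zornMul v x) (zornMul y (g2s_conj u)) -
      g2s_B (zornMul x u) (zornMul (g2s_conj v) y)) = 0 := by
    linear_combination h1
  have h4 := (hNa.mul_right_eq_zero).mp h3
  exact sub_eq_zero.mp h4

include he hmul ha in
/-- `H` is associative. -/
theorem g2s_cd_assoc (hNa : IsUnit (g2s_N a))
    (hnd : ∀ h ∈ H, (∀ y ∈ H, g2s_B h y = 0) → h = 0)
    {v x u : Fin 8 → F} (hv : v ∈ H) (hx : x ∈ H) (hu : u ∈ H) :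
    zornMul (zornMul v x) u = zornMul v (zornMul x u) := by
  apply eq_of_sub_eq_zero
  apply hnd _ (Submodule.sub_mem _ (hmul _ (hmul _ hv _ hx) _ hu) (hmul _ hv _ (hmul _ hx _ hu)))
  intro y hy
  have h1 : g2s_B (zornMul (zornMul v x) u - zornMul v (zornMul x u)) y =
      g2s_B (zornMul (zornMul v x) u) y - g2s_B (zornMul v (zornMul x u)) y := by
    simp only [g2s_B, Pi.sub_apply]
    ring
  rw [h1, g2s_B_adj_right u (zornMul v x) y, g2s_B_adj_left v (zornMul x u) y,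
    g2s_cd_key he hmul ha hNa hx hy hu hv, sub_self]

end cd

end Cfsg.Agent.G2S
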