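import Mathlib

set_option autoImplicit false

/-!
S4632 swarm, package P4b: the matrix core of the centralizer computation. A pair `(c, d)` of
invertible `2 × 2` matrices with equal determinants which commutes, up to a common scalar, with the
test pairs `(e₀, 1)`, `(1, e₀)`, `(φ, φ)`, `(φ, d₁)` is a scalar pair `(a, ±a)`.
-/

namespace Cfsg.Agent.G2S

open Matrix

variable {F : Type*} [Field F]

/-- Entries of `c * e₀ = a • (e₀ * c)`. -/
theorem g2s_cc_e0 {c : Matrix (Fin 2) (Fin 2) F} {a : F}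
    (h : c * !![0, -1; 1, 0] = a • (!![0, -1; 1, 0] * c)) :
    c 0 1 = -(a * c 1 0) ∧ c 0 0 = a * c 1 1 ∧ c 1 1 = a * c 0 0 ∧ -c 1 0 = a * c 0 1 := by
  have h00 := congrFun (congrFun h 0) 0
  have h01 := congrFun (congrFun h 0) 1
  have h10 := congrFun (congrFun h 1) 0
  have h11 := congrFun (congrFun h 1) 1
  simp [Matrix.mul_apply, Fin.sum_univ_two, Matrix.vecMul, dotProduct] at h00 h01 h10 h11
  exact ⟨h00, h01, h10, h11⟩

/-- Entries of `c * φ = a • (φ * c)`. -/
theorem g2s_cc_phi {c : Matrix (Fin 2) (Fin 2) F} {a : F}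
    (h : c * !![1, 0; 0, -1] = a • (!![1, 0; 0, -1] * c)) :
    c 0 0 = a * c 0 0 ∧ -c 0 1 = a * c 0 1 ∧ c 1 0 = -(a * c 1 0) ∧ c 1 1 = a * c 1 1 := by
  have h00 := congrFun (congrFun h 0) 0
  have h01 := congrFun (congrFun h 0) 1
  have h10 := congrFun (congrFun h 1) 0
  have h11 := congrFun (congrFun h 1) 1
  simp [Matrix.mul_apply, Fin.sum_univ_two, Matrix.vecMul, dotProduct] at h00 h01 h10 h11
  exact ⟨h00, h01, h10, h11⟩

theorem g2s_cc_ne_zero {c : Matrix (Fin 2) (Fin 2) F} (hc : c.det ≠ 0) : c ≠ 0 := by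
  rintro rfl
  apply hc
  rw [Matrix.det_fin_two]
  simp

theorem g2s_cc_one_of_smul {c : Matrix (Fin 2) (Fin 2) F} (hc : c ≠ 0) {a : F} (h : c = a • c) :
    a = 1 := by
  by_contra ha
  apply hc
  have h1 : (1 - a) • c = 0 := by
    rw [sub_smul, one_smul, ← h, sub_self]
  rcases smul_eq_zero.mp h1 with h2 | h2
  · exact absurd (sub_eq_zero.mp h2).symm ha
  · exact h2

/-- Entries `(0,0)` and `(0,1)` of `d * d₁ = a • (d₁ * d)` for `d₁ = !![x, -y; y, x]`. -/
theorem g2s_cc_d1 {d : Matrix (Fin 2) (Fin 2) F} {a x y : F}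
    (h : d * !![x, -y; y, x] = a • (!![x, -y; y, x] * d)) :
    d 0 0 * x + d 0 1 * y = a * (x * d 0 0 + -(y * d 1 0)) ∧
      -(d 0 0 * y) + d 0 1 * x = a * (x * d 0 1 + -(y * d 1 1)) := by
  have h00 := congrFun (congrFun h 0) 0
  have h01 := congrFun (congrFun h 0) 1
  simp [Matrix.mul_apply, Fin.sum_univ_two, Matrix.vecMul, dotProduct] at h00 h01
  exact ⟨h00, h01⟩

/-- P4b: the matrix core of the centralizer computation. -/
theorem g2s_cent_core (h2 : (2 : F) ≠ 0) (c d d₁ : Matrix (Fin 2) (Fin 2) F) (hc : c.det ≠ 0)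
    (hcd : c.det = d.det) (x y : F) (hd₁ : d₁ = !![x, -y; y, x]) (hxy : x ^ 2 + y ^ 2 = -1)
    (h1 : ∃ a : F, c * !![0, -1; 1, 0] = a • (!![0, -1; 1, 0] * c) ∧ d = a • d)
    (h2' : ∃ a : F, c = a • c ∧ d * !![0, -1; 1, 0] = a • (!![0, -1; 1, 0] * d))
    (h3 : ∃ a : F, c * !![1, 0; 0, -1] = a • (!![1, 0; 0, -1] * c) ∧
      d * !![1, 0; 0, -1] = a • (!![1, 0; 0, -1] * d))
    (h4 : ∃ a : F, c * !![1, 0; 0, -1] = a • (!![1, 0; 0, -1] * c) ∧ d * d₁ = a • (d₁ * d)) :
    ∃ a : F, c = a • 1 ∧ (d = a • 1 ∨ d = -(a • 1)) := by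
  have hd : d.det ≠ 0 := hcd ▸ hc
  have hc0 : c ≠ 0 := g2s_cc_ne_zero hc
  have hd0 : d ≠ 0 := g2s_cc_ne_zero hd
  -- `c` and `d` commute with `e₀`
  obtain ⟨a1, hc1, hda1⟩ := h1
  have ha1 : a1 = 1 := g2s_cc_one_of_smul hd0 hda1
  rw [ha1] at hc1
  obtain ⟨c1a, c1b, -, -⟩ := g2s_cc_e0 hc1
  obtain ⟨a2, hca2, hd2⟩ := h2'
  have ha2 : a2 = 1 := g2s_cc_one_of_smul hc0 hca2
  rw [ha2] at hd2
  obtain ⟨d1a, d1b, -, -⟩ := g2s_cc_e0 hd2
  rw [one_mul] at c1a c1b d1a d1b
  -- determinants
  have hdetc : c.det = c 0 0 ^ 2 + c 1 0 ^ 2 := by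
    rw [Matrix.det_fin_two, c1a, ← c1b]; ring
  have hdetd : d.det = d 0 0 ^ 2 + d 1 0 ^ 2 := by
    rw [Matrix.det_fin_two, d1a, ← d1b]; ring
  -- the relation with `φ`
  obtain ⟨a3, hc3, hd3⟩ := h3
  obtain ⟨c3a, -, c3c, -⟩ := g2s_cc_phi hc3
  obtain ⟨d3a, -, d3c, -⟩ := g2s_cc_phi hd3
  by_cases hs : c 0 0 = 0
  · -- the excluded case `c = t e₀`
    exfalso
    have ht : c 1 0 ≠ 0 := by
      intro ht
      apply hc
      rw [hdetc, hs, ht]; ring
    have ha3 : a3 = -1 := by
      have : c 1 0 * (1 + a3) = 0 := by linear_combination c3c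
      rcases mul_eq_zero.mp this with h | h
      · exact absurd h ht
      · linear_combination h
    rw [ha3] at d3a
    have hd00 : d 0 0 = 0 := by
      have : (2 : F) * d 0 0 = 0 := by linear_combination d3a
      rcases mul_eq_zero.mp this with h | h
      · exact absurd h h2
      · exact h
    have ht' : d 1 0 ≠ 0 := by
      intro ht'
      apply hd
      rw [hdetd, hd00, ht']; ring
    obtain ⟨a4, hc4, hd4⟩ := h4
    obtain ⟨-, -, c4c, -⟩ := g2s_cc_phi hc4
    have ha4 : a4 = -1 := by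
      have : c 1 0 * (1 + a4) = 0 := by linear_combination c4c
      rcases mul_eq_zero.mp this with h | h
      · exact absurd h ht
      · linear_combination h
    rw [hd₁, ha4] at hd4
    obtain ⟨e1, e2⟩ := g2s_cc_d1 hd4
    have hd11 : d 1 1 = 0 := by rw [← d1b]; exact hd00
    rw [hd00, d1a] at e1
    rw [hd00, hd11, d1a] at e2
    have hy : y = 0 := by
      have : (2 : F) * (d 1 0 * y) = 0 := by linear_combination -e1
      rcases mul_eq_zero.mp this with h | h
      · exact absurd h h2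
      · rcases mul_eq_zero.mp h with h' | h'
        · exact absurd h' ht'
        · exact h'
    have hx : x = 0 := by
      have : (2 : F) * (d 1 0 * x) = 0 := by linear_combination -e2
      rcases mul_eq_zero.mp this with h | h
      · exact absurd h h2
      · rcases mul_eq_zero.mp h with h' | h'
        · exact absurd h' ht'
        · exact h'
    rw [hx, hy] at hxy
    have : (1 : F) = 0 := by linear_combination hxy
    exact one_ne_zero this
  · -- the scalar case
    have ha3 : a3 = 1 := by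
      have : c 0 0 * (1 - a3) = 0 := by linear_combination c3a
      rcases mul_eq_zero.mp this with h | h
      · exact absurd h hs
      · linear_combination -h
    rw [ha3] at c3c d3c
    have hc10 : c 1 0 = 0 := by
      have : (2 : F) * c 1 0 = 0 := by linear_combination c3c
      rcases mul_eq_zero.mp this with h | h
      · exact absurd h h2
      · exact h
    have hd10 : d 1 0 = 0 := by
      have : (2 : F) * d 1 0 = 0 := by linear_combination d3c
      rcases mul_eq_zero.mp this with h | h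
      · exact absurd h h2
      · exact h
    have hceq : c = c 0 0 • (1 : Matrix (Fin 2) (Fin 2) F) := by
      ext i j
      fin_cases i <;> fin_cases j <;> simp [c1a, hc10, ← c1b]
    have hdeq : d = d 0 0 • (1 : Matrix (Fin 2) (Fin 2) F) := by
      ext i j
      fin_cases i <;> fin_cases j <;> simp [d1a, hd10, ← d1b]
    have hsq : (d 0 0 - c 0 0) * (d 0 0 + c 0 0) = 0 := by
      have := hcd
      rw [hdetc, hdetd, hc10, hd10] at this
      linear_combination -this
    refine ⟨c 0 0, hceq, ?_⟩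
    rcases mul_eq_zero.mp hsq with h | h
    · left
      rw [hdeq, sub_eq_zero.mp h]
    · right
      have : d 0 0 = -c 0 0 := by linear_combination h
      rw [hdeq, this, neg_smul]

end Cfsg.Agent.G2S
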