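import Mathlib
import Cfsg.Prelude.Def_G2

/-!
# S4632 swarm (G2S): coordinates on the split octonions, Cayley–Dickson formula, the hom Φ : Λ → G₂(F)

`F⁸ = M₂(F) ⊕ M₂(F)` via `g2s_iota`, and in these coordinates Zorn's product is the Cayley–Dickson
double of `M₂(F)`:
`(X,Y)(X',Y') = (X X' + adj(Y') Y, Y' X + Y adj(X'))`.
-/

set_option autoImplicit false

namespace Cfsg.Agent.G2S
open Matrix Cfsg.Lie

variable {F : Type*} [Field F]

/-- coordinates `M₂(F) ⊕ M₂(F) → F⁸` -/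
def g2s_iota (X Y : Matrix (Fin 2) (Fin 2) F) : Fin 8 → F :=
  ![X 0 0, X 0 1, Y 0 0, -Y 1 0, X 1 0, Y 1 1, Y 0 1, X 1 1]

/-- first projection `F⁸ → M₂(F)` -/
def g2s_prX (v : Fin 8 → F) : Matrix (Fin 2) (Fin 2) F := !![v 0, v 1; v 4, v 7]

/-- second projection `F⁸ → M₂(F)` -/
def g2s_prY (v : Fin 8 → F) : Matrix (Fin 2) (Fin 2) F := !![v 2, v 6; -v 3, v 5]

theorem g2s_iota_pr (v : Fin 8 → F) : g2s_iota (g2s_prX v) (g2s_prY v) = v := by
  ext i
  fin_cases i <;> simp [g2s_iota, g2s_prX, g2s_prY]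

theorem g2s_prX_iota (X Y : Matrix (Fin 2) (Fin 2) F) : g2s_prX (g2s_iota X Y) = X := by
  ext i j
  fin_cases i <;> fin_cases j <;> simp [g2s_iota, g2s_prX]

theorem g2s_prY_iota (X Y : Matrix (Fin 2) (Fin 2) F) : g2s_prY (g2s_iota X Y) = Y := by
  ext i j
  fin_cases i <;> fin_cases j <;> simp [g2s_iota, g2s_prY]

theorem g2s_iota_inj {X Y X' Y' : Matrix (Fin 2) (Fin 2) F} (h : g2s_iota X Y = g2s_iota X' Y') :
    X = X' ∧ Y = Y' := by
  constructor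
  · have := congrArg g2s_prX h
    rwa [g2s_prX_iota, g2s_prX_iota] at this
  · have := congrArg g2s_prY h
    rwa [g2s_prY_iota, g2s_prY_iota] at this

theorem g2s_iota_add (X Y X' Y' : Matrix (Fin 2) (Fin 2) F) :
    g2s_iota (X + X') (Y + Y') = g2s_iota X Y + g2s_iota X' Y' := by
  ext i
  fin_cases i <;> simp [g2s_iota] <;> ring

theorem g2s_iota_smul (a : F) (X Y : Matrix (Fin 2) (Fin 2) F) :
    g2s_iota (a • X) (a • Y) = a • g2s_iota X Y := by
  ext i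
  fin_cases i <;> simp [g2s_iota]

theorem g2s_iota_zero : g2s_iota (0 : Matrix (Fin 2) (Fin 2) F) 0 = 0 := by
  ext i
  fin_cases i <;> simp [g2s_iota]

theorem g2s_iota_split (X Y : Matrix (Fin 2) (Fin 2) F) :
    g2s_iota X Y = g2s_iota X 0 + g2s_iota 0 Y := by
  rw [← g2s_iota_add, add_zero, zero_add]

theorem g2s_prX_add (v w : Fin 8 → F) : g2s_prX (v + w) = g2s_prX v + g2s_prX w := by
  ext i j
  fin_cases i <;> fin_cases j <;> simp [g2s_prX]

theorem g2s_prY_add (v w : Fin 8 → F) : g2s_prY (v + w) = g2s_prY v + g2s_prY w := by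
  ext i j
  fin_cases i <;> fin_cases j <;> simp [g2s_prY] <;> ring

theorem g2s_prX_smul (a : F) (v : Fin 8 → F) : g2s_prX (a • v) = a • g2s_prX v := by
  ext i j
  fin_cases i <;> fin_cases j <;> simp [g2s_prX]

theorem g2s_prY_smul (a : F) (v : Fin 8 → F) : g2s_prY (a • v) = a • g2s_prY v := by
  ext i j
  fin_cases i <;> fin_cases j <;> simp [g2s_prY]

/-- explicit 2×2 adjugate (auxiliary) -/
def g2s_adj2 (Y : Matrix (Fin 2) (Fin 2) F) : Matrix (Fin 2) (Fin 2) F :=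
  fun i j => if i = 0 then (if j = 0 then Y 1 1 else -Y 0 1) else (if j = 0 then -Y 1 0 else Y 0 0)

theorem g2s_adj2_eq (Y : Matrix (Fin 2) (Fin 2) F) : g2s_adj2 Y = adjugate Y := by
  rw [Matrix.adjugate_fin_two]
  ext i j
  fin_cases i <;> fin_cases j <;> simp [g2s_adj2]

/-- **Cayley–Dickson formula**: Zorn's product in the coordinates `g2s_iota`. -/
theorem g2s_zornMul_iota (X Y X' Y' : Matrix (Fin 2) (Fin 2) F) :
    zornMul (g2s_iota X Y) (g2s_iota X' Y') =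
      g2s_iota (X * X' + adjugate Y' * Y) (Y' * X + Y * adjugate X') := by
  rw [← g2s_adj2_eq, ← g2s_adj2_eq]
  ext i
  fin_cases i <;>
  simp [zornMul, g2s_iota, dot3, cross3, Matrix.mul_apply, Fin.sum_univ_two, g2s_adj2] <;> ring

/-- the unit of the octonions is `ι 1 0` -/
theorem g2s_zornMul_iota_XX (X X' : Matrix (Fin 2) (Fin 2) F) :
    zornMul (g2s_iota X 0) (g2s_iota X' 0) = g2s_iota (X * X') 0 := by
  rw [g2s_zornMul_iota]; simp

/-! ### The group Λ and the hom Φ -/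

/-- `Λ = {(c,d) ∈ GL₂(F)² | det c = det d}` -/
def g2s_Lam (F : Type*) [Field F] : Subgroup (GL (Fin 2) F × GL (Fin 2) F) where
  carrier := {p | (p.1 : Matrix (Fin 2) (Fin 2) F).det = (p.2 : Matrix (Fin 2) (Fin 2) F).det}
  mul_mem' {a b} ha hb := by
    simp only [Set.mem_ofPred_eq, Prod.fst_mul, Prod.snd_mul, Units.val_mul, Matrix.det_mul] at *
    rw [ha, hb]
  one_mem' := by simp
  inv_mem' {a} ha := by
    simp only [Set.mem_ofPred_eq, Prod.fst_inv, Prod.snd_inv, Matrix.coe_units_inv,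
      Matrix.det_nonsing_inv] at *
    rw [ha]

theorem g2s_mem_Lam (p : GL (Fin 2) F × GL (Fin 2) F) :
    p ∈ g2s_Lam F ↔ (p.1 : Matrix (Fin 2) (Fin 2) F).det = (p.2 : Matrix (Fin 2) (Fin 2) F).det :=
  Iff.rfl

/-- the linear map `(X,Y) ↦ (c X c⁻¹, d Y c⁻¹)` -/
def g2s_phiLin (c d : GL (Fin 2) F) : (Fin 8 → F) →ₗ[F] (Fin 8 → F) where
  toFun v := g2s_iota ((c : Matrix (Fin 2) (Fin 2) F) * g2s_prX v * ((c⁻¹ : GL (Fin 2) F) : Matrix (Fin 2) (Fin 2) F))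
    ((d : Matrix (Fin 2) (Fin 2) F) * g2s_prY v * ((c⁻¹ : GL (Fin 2) F) : Matrix (Fin 2) (Fin 2) F))
  map_add' v w := by
    rw [g2s_prX_add, g2s_prY_add, Matrix.mul_add, Matrix.add_mul, Matrix.mul_add, Matrix.add_mul,
      g2s_iota_add]
  map_smul' a v := by
    rw [g2s_prX_smul, g2s_prY_smul, Matrix.mul_smul, Matrix.smul_mul, Matrix.mul_smul,
      Matrix.smul_mul, g2s_iota_smul, RingHom.id_apply]

theorem g2s_phiLin_iota (c d : GL (Fin 2) F) (X Y : Matrix (Fin 2) (Fin 2) F) :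
    g2s_phiLin c d (g2s_iota X Y) =
      g2s_iota ((c : Matrix (Fin 2) (Fin 2) F) * X * ((c⁻¹ : GL (Fin 2) F) : Matrix (Fin 2) (Fin 2) F))
        ((d : Matrix (Fin 2) (Fin 2) F) * Y * ((c⁻¹ : GL (Fin 2) F) : Matrix (Fin 2) (Fin 2) F)) := by
  show g2s_iota _ _ = _
  rw [g2s_prX_iota, g2s_prY_iota]

theorem g2s_phiLin_comp (c d c' d' : GL (Fin 2) F) :
    (g2s_phiLin c d).comp (g2s_phiLin c' d') = g2s_phiLin (c * c') (d * d') := by
  apply LinearMap.ext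
  intro v
  rw [LinearMap.comp_apply, ← g2s_iota_pr v, g2s_phiLin_iota, g2s_phiLin_iota, g2s_phiLin_iota]
  simp only [_root_.mul_inv_rev, Units.val_mul, Matrix.mul_assoc]

theorem g2s_phiLin_one : g2s_phiLin (1 : GL (Fin 2) F) 1 = LinearMap.id := by
  apply LinearMap.ext
  intro v
  rw [← g2s_iota_pr v, g2s_phiLin_iota]
  simp

/-- `Φ(c,d)` as an element of `GL₈(F)` -/
def g2s_phiGL (c d : GL (Fin 2) F) : GL (Fin 8) F where
  val := LinearMap.toMatrix' (g2s_phiLin c d)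
  inv := LinearMap.toMatrix' (g2s_phiLin c⁻¹ d⁻¹)
  val_inv := by
    rw [← LinearMap.toMatrix'_comp, g2s_phiLin_comp, mul_inv_cancel, mul_inv_cancel, g2s_phiLin_one,
      LinearMap.toMatrix'_id]
  inv_val := by
    rw [← LinearMap.toMatrix'_comp, g2s_phiLin_comp, inv_mul_cancel, inv_mul_cancel, g2s_phiLin_one,
      LinearMap.toMatrix'_id]

theorem g2s_phiGL_mulVec (c d : GL (Fin 2) F) (v : Fin 8 → F) :
    (g2s_phiGL c d : Matrix (Fin 8) (Fin 8) F) *ᵥ v = g2s_phiLin c d v :=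
  LinearMap.toMatrix'_mulVec _ _

theorem g2s_phiGL_mul (c d c' d' : GL (Fin 2) F) :
    g2s_phiGL c d * g2s_phiGL c' d' = g2s_phiGL (c * c') (d * d') := by
  apply Units.ext
  show LinearMap.toMatrix' (g2s_phiLin c d) * LinearMap.toMatrix' (g2s_phiLin c' d') =
    LinearMap.toMatrix' (g2s_phiLin (c * c') (d * d'))
  rw [← LinearMap.toMatrix'_comp, g2s_phiLin_comp]

theorem g2s_phiGL_one : g2s_phiGL (1 : GL (Fin 2) F) 1 = 1 := by
  apply Units.ext
  show LinearMap.toMatrix' (g2s_phiLin 1 1) = 1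
  rw [g2s_phiLin_one, LinearMap.toMatrix'_id]

/-- the matrix identities behind `Φ(c,d) ∈ G₂(F)` -/
theorem g2s_cd_aut (c c' d : Matrix (Fin 2) (Fin 2) F) (δ : F) (hδ : δ ≠ 0)
    (hcc' : c * c' = 1) (hc'c : c' * c = 1) (hc : c.det = δ) (hd : d.det = δ)
    (X Y X' Y' : Matrix (Fin 2) (Fin 2) F) :
    c * (X * X' + adjugate Y' * Y) * c' =
        (c * X * c') * (c * X' * c') + adjugate (d * Y' * c') * (d * Y * c') ∧
      d * (Y' * X + Y * adjugate X') * c' =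
        (d * Y' * c') * (c * X * c') + (d * Y * c') * adjugate (c * X' * c') := by
  have hdetc' : c'.det = δ⁻¹ := by
    have := congrArg Matrix.det hcc'
    rw [Matrix.det_mul, hc, Matrix.det_one] at this
    exact eq_inv_of_mul_eq_one_right this
  have h1 : adjugate c' = δ⁻¹ • c := by
    calc adjugate c' = c * c' * adjugate c' := by rw [hcc', Matrix.one_mul]
      _ = c * (c' * adjugate c') := by rw [Matrix.mul_assoc]
      _ = δ⁻¹ • c := by rw [Matrix.mul_adjugate, hdetc', Matrix.mul_smul, Matrix.mul_one]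
  have h2 : adjugate c = δ • c' := by
    calc adjugate c = adjugate c * (c * c') := by rw [hcc', Matrix.mul_one]
      _ = (adjugate c * c) * c' := by rw [Matrix.mul_assoc]
      _ = δ • c' := by rw [Matrix.adjugate_mul, hc, Matrix.smul_mul, Matrix.one_mul]
  have h3 : ∀ Z : Matrix (Fin 2) (Fin 2) F, adjugate d * (d * Z) = δ • Z := by
    intro Z
    rw [← Matrix.mul_assoc, Matrix.adjugate_mul, hd, Matrix.smul_mul, Matrix.one_mul]
  have h4 : ∀ Z : Matrix (Fin 2) (Fin 2) F, c' * (c * Z) = Z := by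
    intro Z
    rw [← Matrix.mul_assoc, hc'c, Matrix.one_mul]
  constructor
  · rw [Matrix.adjugate_mul_distrib, Matrix.adjugate_mul_distrib, h1]
    simp only [Matrix.mul_assoc, Matrix.mul_add, Matrix.add_mul, h3, h4, Matrix.smul_mul,
      Matrix.mul_smul, smul_smul, inv_mul_cancel₀ hδ, one_smul]
  · rw [Matrix.adjugate_mul_distrib, Matrix.adjugate_mul_distrib, h1, h2]
    simp only [Matrix.mul_assoc, Matrix.mul_add, Matrix.add_mul, h4, Matrix.smul_mul,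
      Matrix.mul_smul, smul_smul, mul_inv_cancel₀ hδ, one_smul]

theorem g2s_phiGL_mem (c d : GL (Fin 2) F)
    (h : (c : Matrix (Fin 2) (Fin 2) F).det = (d : Matrix (Fin 2) (Fin 2) F).det) :
    g2s_phiGL c d ∈ G2 F := by
  intro x y
  rw [Units.coeHom_apply, g2s_phiGL_mulVec, g2s_phiGL_mulVec, g2s_phiGL_mulVec,
    ← g2s_iota_pr x, ← g2s_iota_pr y, g2s_zornMul_iota, g2s_phiLin_iota, g2s_phiLin_iota,
    g2s_phiLin_iota, g2s_zornMul_iota]
  have hδ : (c : Matrix (Fin 2) (Fin 2) F).det ≠ 0 := by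
    have := (Matrix.isUnit_iff_isUnit_det (c : Matrix (Fin 2) (Fin 2) F)).mp c.isUnit
    exact this.ne_zero
  obtain ⟨e1, e2⟩ := g2s_cd_aut (c : Matrix (Fin 2) (Fin 2) F)
    ((c⁻¹ : GL (Fin 2) F) : Matrix (Fin 2) (Fin 2) F) (d : Matrix (Fin 2) (Fin 2) F) _ hδ
    (by rw [← Units.val_mul, mul_inv_cancel, Units.val_one])
    (by rw [← Units.val_mul, inv_mul_cancel, Units.val_one]) rfl h.symm
    (g2s_prX x) (g2s_prY x) (g2s_prX y) (g2s_prY y)
  rw [e1, e2]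

/-- **The hom `Φ : Λ → G₂(F)`**, `Φ(c,d)(ι X Y) = ι (c X c⁻¹) (d Y c⁻¹)`. -/
def g2s_Phi : g2s_Lam F →* G2 F where
  toFun p := ⟨g2s_phiGL p.1.1 p.1.2, g2s_phiGL_mem p.1.1 p.1.2 p.2⟩
  map_one' := by
    apply Subtype.ext
    show g2s_phiGL (1 : GL (Fin 2) F) 1 = 1
    exact g2s_phiGL_one
  map_mul' p q := by
    apply Subtype.ext
    show g2s_phiGL (p.1.1 * q.1.1) (p.1.2 * q.1.2) = g2s_phiGL p.1.1 p.1.2 * g2s_phiGL q.1.1 q.1.2
    rw [g2s_phiGL_mul]

theorem g2s_Phi_mulVec (p : g2s_Lam F) (X Y : Matrix (Fin 2) (Fin 2) F) :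
    (((g2s_Phi p : G2 F) : GL (Fin 8) F) : Matrix (Fin 8) (Fin 8) F) *ᵥ g2s_iota X Y =
      g2s_iota ((p.1.1 : Matrix (Fin 2) (Fin 2) F) * X *
          ((p.1.1⁻¹ : GL (Fin 2) F) : Matrix (Fin 2) (Fin 2) F))
        ((p.1.2 : Matrix (Fin 2) (Fin 2) F) * Y *
          ((p.1.1⁻¹ : GL (Fin 2) F) : Matrix (Fin 2) (Fin 2) F)) := by
  show (g2s_phiGL p.1.1 p.1.2 : Matrix (Fin 8) (Fin 8) F) *ᵥ _ = _
  rw [g2s_phiGL_mulVec, g2s_phiLin_iota]

/-- two elements of `GL₈(F)` agreeing on all `ι X Y` are equal -/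
theorem g2s_GL_ext {g h : GL (Fin 8) F}
    (H : ∀ X Y : Matrix (Fin 2) (Fin 2) F,
      (g : Matrix (Fin 8) (Fin 8) F) *ᵥ g2s_iota X Y = (h : Matrix (Fin 8) (Fin 8) F) *ᵥ g2s_iota X Y) :
    g = h := by
  apply Units.ext
  apply Matrix.toLin'.injective
  apply LinearMap.ext
  intro v
  rw [Matrix.toLin'_apply, Matrix.toLin'_apply, ← g2s_iota_pr v]
  exact H _ _

/-- kernel of `Φ`: the scalar pairs `(a,a)` -/
theorem g2s_Phi_eq_one_iff (p : g2s_Lam F) :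
    g2s_Phi p = 1 ↔ ∃ a : F, (p.1.1 : Matrix (Fin 2) (Fin 2) F) = a • 1 ∧
      (p.1.2 : Matrix (Fin 2) (Fin 2) F) = a • 1 := by
  constructor
  · intro h
    have hv : ∀ X Y : Matrix (Fin 2) (Fin 2) F,
        g2s_iota ((p.1.1 : Matrix (Fin 2) (Fin 2) F) * X *
          ((p.1.1⁻¹ : GL (Fin 2) F) : Matrix (Fin 2) (Fin 2) F))
        ((p.1.2 : Matrix (Fin 2) (Fin 2) F) * Y *
          ((p.1.1⁻¹ : GL (Fin 2) F) : Matrix (Fin 2) (Fin 2) F)) = g2s_iota X Y := by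
      intro X Y
      rw [← g2s_Phi_mulVec, h]
      simp
    have hX : ∀ X : Matrix (Fin 2) (Fin 2) F,
        (p.1.1 : Matrix (Fin 2) (Fin 2) F) * X = X * (p.1.1 : Matrix (Fin 2) (Fin 2) F) := by
      intro X
      have := (g2s_iota_inj (hv X 0)).1
      calc (p.1.1 : Matrix (Fin 2) (Fin 2) F) * X
          = (p.1.1 : Matrix (Fin 2) (Fin 2) F) * X *
              (((p.1.1⁻¹ : GL (Fin 2) F) : Matrix (Fin 2) (Fin 2) F) *
                (p.1.1 : Matrix (Fin 2) (Fin 2) F)) := by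
            rw [← Units.val_mul, inv_mul_cancel, Units.val_one, Matrix.mul_one]
        _ = X * (p.1.1 : Matrix (Fin 2) (Fin 2) F) := by rw [← Matrix.mul_assoc, this]
    have hY : (p.1.2 : Matrix (Fin 2) (Fin 2) F) = (p.1.1 : Matrix (Fin 2) (Fin 2) F) := by
      have := (g2s_iota_inj (hv 0 1)).2
      rw [Matrix.mul_one] at this
      calc (p.1.2 : Matrix (Fin 2) (Fin 2) F)
          = (p.1.2 : Matrix (Fin 2) (Fin 2) F) *
              (((p.1.1⁻¹ : GL (Fin 2) F) : Matrix (Fin 2) (Fin 2) F) *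
                (p.1.1 : Matrix (Fin 2) (Fin 2) F)) := by
            rw [← Units.val_mul, inv_mul_cancel, Units.val_one, Matrix.mul_one]
        _ = (p.1.1 : Matrix (Fin 2) (Fin 2) F) := by rw [← Matrix.mul_assoc, this, Matrix.one_mul]
    have hsc : (p.1.1 : Matrix (Fin 2) (Fin 2) F) ∈ Set.range (Matrix.scalar (Fin 2)) := by
      rw [Matrix.mem_range_scalar_iff_commute_single']
      intro i j
      exact (hX _).symm
    obtain ⟨a, ha⟩ := hsc
    refine ⟨a, ?_, ?_⟩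
    · rw [← ha, Matrix.scalar_apply, Matrix.smul_one_eq_diagonal]
    · rw [hY, ← ha, Matrix.scalar_apply, Matrix.smul_one_eq_diagonal]
  · rintro ⟨a, h1, h2⟩
    apply Subtype.ext
    apply g2s_GL_ext
    intro X Y
    rw [g2s_Phi_mulVec, h2, h1]
    have hinv : (a • (1 : Matrix (Fin 2) (Fin 2) F)) *
        ((p.1.1⁻¹ : GL (Fin 2) F) : Matrix (Fin 2) (Fin 2) F) = 1 := by
      rw [← h1, ← Units.val_mul, mul_inv_cancel, Units.val_one]
    have hc : ∀ Z : Matrix (Fin 2) (Fin 2) F, (a • (1 : Matrix (Fin 2) (Fin 2) F)) * Z *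
        ((p.1.1⁻¹ : GL (Fin 2) F) : Matrix (Fin 2) (Fin 2) F) = Z := by
      intro Z
      have : (a • (1 : Matrix (Fin 2) (Fin 2) F)) * Z = Z * (a • (1 : Matrix (Fin 2) (Fin 2) F)) := by
        simp
      rw [this, Matrix.mul_assoc, hinv, Matrix.mul_one]
    rw [hc, hc]
    simp

/-- the element `(1,-1) ∈ Λ` -/
def g2s_z0Lam (F : Type*) [Field F] : g2s_Lam F :=
  ⟨(1, -1), by
    show ((1 : GL (Fin 2) F) : Matrix (Fin 2) (Fin 2) F).det =
      ((-1 : GL (Fin 2) F) : Matrix (Fin 2) (Fin 2) F).det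
    rw [Units.val_neg, Units.val_one, Matrix.det_neg, Matrix.det_one]
    simp⟩

/-- the involution `z₀ = Φ(1,-1) : ι X Y ↦ ι X (-Y)` -/
def g2s_z0 : G2 F := g2s_Phi (g2s_z0Lam F)

theorem g2s_z0_mulVec (X Y : Matrix (Fin 2) (Fin 2) F) :
    (((g2s_z0 : G2 F) : GL (Fin 8) F) : Matrix (Fin 8) (Fin 8) F) *ᵥ g2s_iota X Y =
      g2s_iota X (-Y) := by
  unfold g2s_z0
  rw [g2s_Phi_mulVec]
  simp [g2s_z0Lam]

end Cfsg.Agent.G2S
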