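import Mathlib

set_option autoImplicit false

/-!
S4632 swarm, package (4), abstract part: automorphisms of a matrix algebra over a field are inner
(from Mathlib's version for endomorphism algebras); a bilinear form on a space of dimension four
over a finite field has a non-zero isotropic vector (Chevalley-Warning); and a four-dimensional
associative algebra with a non-degenerate multiplicative quadratic norm over a finite field is a
matrix algebra.
-/

namespace Cfsg.Agent.G2S

open Matrix

section skolem

variable {F : Type*} [Field F]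

/-- Skolem-Noether for matrix algebras over a field. -/
theorem g2s_skolem_noether {n : Type*} [Fintype n] [DecidableEq n]
    (σ : Matrix n n F ≃ₐ[F] Matrix n n F) :
    ∃ c : GL n F, ∀ a, σ a = (c : Matrix n n F) * a * ((c⁻¹ : GL n F) : Matrix n n F) := by
  let τ : Module.End F (n → F) ≃ₐ[F] Module.End F (n → F) :=
    (Matrix.toLinAlgEquiv' (R := F) (n := n)).symm.trans (σ.trans Matrix.toLinAlgEquiv')
  obtain ⟨T, hT⟩ := τ.eq_linearEquivConjAlgEquiv
  set c0 : Matrix n n F := LinearMap.toMatrix' (T : (n → F) →ₗ[F] (n → F)) with hc0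
  set c1 : Matrix n n F := LinearMap.toMatrix' (T.symm : (n → F) →ₗ[F] (n → F)) with hc1
  have h01 : c0 * c1 = 1 := by
    rw [hc0, hc1, ← LinearMap.toMatrix'_comp]
    simp
  have h10 : c1 * c0 = 1 := by
    rw [hc0, hc1, ← LinearMap.toMatrix'_comp]
    simp
  refine ⟨⟨c0, c1, h01, h10⟩, fun a => ?_⟩
  have h1 : τ (Matrix.toLinAlgEquiv' a) = Matrix.toLinAlgEquiv' (σ a) := by
    simp [τ]
  rw [hT, LinearEquiv.conjAlgEquiv_apply] at h1
  apply Matrix.toLinAlgEquiv'.injective
  rw [← h1]
  change _ = Matrix.toLinAlgEquiv' (c0 * a * c1)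
  rw [map_mul, map_mul]
  have e0 : Matrix.toLinAlgEquiv' c0 = (T : (n → F) →ₗ[F] (n → F)) := by
    rw [hc0]; exact Matrix.toLin'_toMatrix' _
  have e1 : Matrix.toLinAlgEquiv' c1 = (T.symm : (n → F) →ₗ[F] (n → F)) := by
    rw [hc1]; exact Matrix.toLin'_toMatrix' _
  rw [e0, e1]
  rfl

/-- Skolem-Noether for a multiplicative linear bijection of a matrix algebra. -/
theorem g2s_skolem_noether_lin {n : Type*} [Fintype n] [DecidableEq n]
    (σ : Matrix n n F ≃ₗ[F] Matrix n n F) (hmul : ∀ a b, σ (a * b) = σ a * σ b) :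
    ∃ c : GL n F, ∀ a, σ a = (c : Matrix n n F) * a * ((c⁻¹ : GL n F) : Matrix n n F) := by
  have h1 : σ 1 = 1 := by
    obtain ⟨b, hb⟩ := σ.surjective 1
    have := hmul 1 b
    rw [one_mul, hb, mul_one] at this
    exact this.symm
  exact g2s_skolem_noether (AlgEquiv.ofLinearEquiv σ h1 hmul)

end skolem

section isotropic

variable {F : Type*} [Field F] [Fintype F]

/-- A bilinear form on a space of dimension four over a finite field has a non-zero isotropic
vector. -/
theorem g2s_exists_isotropic {A : Type*} [AddCommGroup A] [Module F A]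
    (hdim : Module.finrank F A = 4) (Bf : A →ₗ[F] A →ₗ[F] F) :
    ∃ x : A, x ≠ 0 ∧ Bf x x = 0 := by
  classical
  have : Module.Finite F A := Module.finite_of_finrank_pos (by omega)
  let b : Module.Basis (Fin 4) F A := Module.finBasisOfFinrankEq F A hdim
  let f : MvPolynomial (Fin 4) F :=
    ∑ i, ∑ j, MvPolynomial.C (Bf (b i) (b j)) * MvPolynomial.X i * MvPolynomial.X j
  have hdeg : f.totalDegree < Fintype.card (Fin 4) := by
    have h2 : f.totalDegree ≤ 2 := by
      apply MvPolynomial.totalDegree_finsetSum_le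
      intro i _
      apply MvPolynomial.totalDegree_finsetSum_le
      intro j _
      refine le_trans (MvPolynomial.totalDegree_mul _ _) ?_
      refine le_trans (add_le_add (MvPolynomial.totalDegree_mul _ _) le_rfl) ?_
      rw [MvPolynomial.totalDegree_C, MvPolynomial.totalDegree_X, MvPolynomial.totalDegree_X]
    rw [Fintype.card_fin]
    omega
  have heval : ∀ c : Fin 4 → F, MvPolynomial.eval c f = Bf (∑ i, c i • b i) (∑ j, c j • b j) := by
    intro c
    simp only [f, map_sum, map_mul, MvPolynomial.eval_C, MvPolynomial.eval_X, LinearMap.sum_apply,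
      map_smul, LinearMap.smul_apply, smul_eq_mul, Finset.mul_sum]
    rw [Finset.sum_comm]
    apply Finset.sum_congr rfl
    intro i _
    apply Finset.sum_congr rfl
    intro j _
    ring
  have hp : (ringChar F).Prime := CharP.char_is_prime F (ringChar F)
  have hdvd := char_dvd_card_solutions (ringChar F) hdeg
  have hz : MvPolynomial.eval (0 : Fin 4 → F) f = 0 := by
    rw [heval]
    simp
  have hpos : 0 < Fintype.card {c : Fin 4 → F // MvPolynomial.eval c f = 0} :=
    Fintype.card_pos_iff.mpr ⟨⟨0, hz⟩⟩
  have h1 : 1 < Fintype.card {c : Fin 4 → F // MvPolynomial.eval c f = 0} :=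
    lt_of_lt_of_le hp.one_lt (Nat.le_of_dvd hpos hdvd)
  obtain ⟨⟨c, hc⟩, hne⟩ := Fintype.exists_ne_of_one_lt_card h1 ⟨0, hz⟩
  refine ⟨∑ i, c i • b i, ?_, ?_⟩
  · intro h0
    apply hne
    apply Subtype.ext
    have := (Fintype.linearIndependent_iff.mp b.linearIndependent) c h0
    exact funext this
  · rw [← heval]
    exact hc

end isotropic

end Cfsg.Agent.G2S
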