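import Mathlib
import Cfsg.Prelude.Def_G2
import Cfsg.Agent.G2S.Defs
import Cfsg.Agent.G2S.Quat

set_option autoImplicit false

/-!
S4632 swarm, package P3: the centralizer of the involution `z₀ = Φ(1,-1)` in `G₂(F)` is the image
of `Φ : Λ → G₂(F)`.
-/

namespace Cfsg.Agent.G2S

open Cfsg.Lie Matrix

variable {F : Type*} [Field F]

/-- The action of an element of `G₂(F)` on `F⁸`. -/
def g2s_A (g : G2 F) (v : Fin 8 → F) : Fin 8 → F :=
  (((g : GL (Fin 8) F) : Matrix (Fin 8) (Fin 8) F)) *ᵥ v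

theorem g2s_A_add (g : G2 F) (v w : Fin 8 → F) : g2s_A g (v + w) = g2s_A g v + g2s_A g w :=
  Matrix.mulVec_add _ _ _

theorem g2s_A_smul (g : G2 F) (a : F) (v : Fin 8 → F) : g2s_A g (a • v) = a • g2s_A g v :=
  Matrix.mulVec_smul _ _ _

theorem g2s_A_mul (g h : G2 F) (v : Fin 8 → F) : g2s_A (g * h) v = g2s_A g (g2s_A h v) := by
  unfold g2s_A
  rw [Subgroup.coe_mul, Units.val_mul, Matrix.mulVec_mulVec]

theorem g2s_A_one (v : Fin 8 → F) : g2s_A (1 : G2 F) v = v := by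
  unfold g2s_A
  rw [Subgroup.coe_one, Units.val_one, Matrix.one_mulVec]

theorem g2s_A_inv_A (g : G2 F) (v : Fin 8 → F) : g2s_A g⁻¹ (g2s_A g v) = v := by
  rw [← g2s_A_mul, inv_mul_cancel, g2s_A_one]

theorem g2s_A_zornMul (g : G2 F) (v w : Fin 8 → F) :
    g2s_A g (zornMul v w) = zornMul (g2s_A g v) (g2s_A g w) := g.2 v w

theorem g2s_A_z0 (X Y : Matrix (Fin 2) (Fin 2) F) :
    g2s_A (g2s_z0 : G2 F) (g2s_iota X Y) = g2s_iota X (-Y) := g2s_z0_mulVec X Y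

section cent

variable (h2 : (2 : F) ≠ 0) {g : G2 F} (hg : g * g2s_z0 = g2s_z0 * g)

include h2 hg in
/-- `g` preserves the fixed space `{ι X 0}` of `z₀`. -/
theorem g2s_prY_A_X (X : Matrix (Fin 2) (Fin 2) F) : g2s_prY (g2s_A g (g2s_iota X 0)) = 0 := by
  have h1 : g2s_A g2s_z0 (g2s_A g (g2s_iota X 0)) = g2s_A g (g2s_iota X 0) := by
    rw [← g2s_A_mul, ← hg, g2s_A_mul, g2s_A_z0, neg_zero]
  rw [← g2s_iota_pr (g2s_A g (g2s_iota X 0)), g2s_A_z0] at h1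
  have h3 := (g2s_iota_inj h1).2
  have h4 : (2 : F) • g2s_prY (g2s_A g (g2s_iota X 0)) = 0 := by
    rw [two_smul]
    nth_rewrite 1 [← h3]
    exact neg_add_cancel _
  rcases smul_eq_zero.mp h4 with h | h
  · exact absurd h h2
  · exact h

include h2 hg in
/-- `g` preserves the `-1`-eigenspace `{ι 0 Y}` of `z₀`. -/
theorem g2s_prX_A_Y (Y : Matrix (Fin 2) (Fin 2) F) : g2s_prX (g2s_A g (g2s_iota 0 Y)) = 0 := by
  have h1 : g2s_A g2s_z0 (g2s_A g (g2s_iota 0 Y)) = -g2s_A g (g2s_iota 0 Y) := by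
    rw [← g2s_A_mul, ← hg, g2s_A_mul, g2s_A_z0]
    have : g2s_iota (0 : Matrix (Fin 2) (Fin 2) F) (-Y) = (-1 : F) • g2s_iota 0 Y := by
      rw [← g2s_iota_smul]
      simp
    rw [this, g2s_A_smul, neg_one_smul]
  have h5 : -g2s_A g (g2s_iota 0 Y) =
      g2s_iota (-g2s_prX (g2s_A g (g2s_iota 0 Y))) (-g2s_prY (g2s_A g (g2s_iota 0 Y))) := by
    have : g2s_iota (-g2s_prX (g2s_A g (g2s_iota 0 Y))) (-g2s_prY (g2s_A g (g2s_iota 0 Y))) =
        (-1 : F) • g2s_iota (g2s_prX (g2s_A g (g2s_iota 0 Y)))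
          (g2s_prY (g2s_A g (g2s_iota 0 Y))) := by
      rw [← g2s_iota_smul]
      simp
    rw [this, g2s_iota_pr, neg_one_smul]
  rw [h5] at h1
  nth_rewrite 1 [← g2s_iota_pr (g2s_A g (g2s_iota 0 Y))] at h1
  rw [g2s_A_z0] at h1
  have h3 := (g2s_iota_inj h1).1
  have h4 : (2 : F) • g2s_prX (g2s_A g (g2s_iota 0 Y)) = 0 := by
    rw [two_smul]
    nth_rewrite 2 [h3]
    exact add_neg_cancel _
  rcases smul_eq_zero.mp h4 with h | h
  · exact absurd h h2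
  · exact h

include h2 hg in
theorem g2s_A_X (X : Matrix (Fin 2) (Fin 2) F) :
    g2s_A g (g2s_iota X 0) = g2s_iota (g2s_prX (g2s_A g (g2s_iota X 0))) 0 := by
  nth_rewrite 1 [← g2s_iota_pr (g2s_A g (g2s_iota X 0))]
  rw [g2s_prY_A_X h2 hg]

include h2 hg in
theorem g2s_A_Y (Y : Matrix (Fin 2) (Fin 2) F) :
    g2s_A g (g2s_iota 0 Y) = g2s_iota 0 (g2s_prY (g2s_A g (g2s_iota 0 Y))) := by
  nth_rewrite 1 [← g2s_iota_pr (g2s_A g (g2s_iota 0 Y))]
  rw [g2s_prX_A_Y h2 hg]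

end cent

/-- `g⁻¹` commutes with `z₀` as well. -/
theorem g2s_inv_comm {g : G2 F} (hg : g * g2s_z0 = g2s_z0 * g) :
    g⁻¹ * g2s_z0 = g2s_z0 * g⁻¹ := by
  have : g2s_z0 = g * g2s_z0 * g⁻¹ := by rw [hg]; group
  calc g⁻¹ * g2s_z0 = g⁻¹ * (g * g2s_z0 * g⁻¹) := by rw [← this]
    _ = g2s_z0 * g⁻¹ := by group

/-- The map induced on the fixed algebra `M₂(F)`. -/
def g2s_fX (g : G2 F) : Matrix (Fin 2) (Fin 2) F →ₗ[F] Matrix (Fin 2) (Fin 2) F where
  toFun X := g2s_prX (g2s_A g (g2s_iota X 0))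
  map_add' X X' := by
    have : g2s_iota (X + X') (0 : Matrix (Fin 2) (Fin 2) F) = g2s_iota X 0 + g2s_iota X' 0 := by
      rw [← g2s_iota_add, add_zero]
    rw [this, g2s_A_add, g2s_prX_add]
  map_smul' a X := by
    have : g2s_iota (a • X) (0 : Matrix (Fin 2) (Fin 2) F) = a • g2s_iota X 0 := by
      rw [← g2s_iota_smul, smul_zero]
    rw [this, g2s_A_smul, g2s_prX_smul, RingHom.id_apply]

theorem g2s_fX_apply (g : G2 F) (X : Matrix (Fin 2) (Fin 2) F) :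
    g2s_fX g X = g2s_prX (g2s_A g (g2s_iota X 0)) := rfl

/-- **P3.** The centralizer of `z₀` is the image of `Φ`. -/
theorem g2s_centralizer_z0 (h2 : (2 : F) ≠ 0) (g : G2 F) (hg : g * g2s_z0 = g2s_z0 * g) :
    ∃ p : g2s_Lam F, g2s_Phi p = g := by
  have hg' := g2s_inv_comm hg
  -- the induced map on `M₂(F)`
  have hAX : ∀ X, g2s_A g (g2s_iota X 0) = g2s_iota (g2s_fX g X) 0 := fun X => g2s_A_X h2 hg X
  have hAX' : ∀ X, g2s_A g⁻¹ (g2s_iota X 0) = g2s_iota (g2s_fX g⁻¹ X) 0 :=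
    fun X => g2s_A_X h2 hg' X
  have hleft : ∀ X, g2s_fX g⁻¹ (g2s_fX g X) = X := by
    intro X
    have := g2s_A_inv_A g (g2s_iota X 0)
    rw [hAX, hAX'] at this
    exact (g2s_iota_inj this).1
  have hright : ∀ X, g2s_fX g (g2s_fX g⁻¹ X) = X := by
    intro X
    have := g2s_A_inv_A g⁻¹ (g2s_iota X 0)
    rw [inv_inv, hAX', hAX] at this
    exact (g2s_iota_inj this).1
  let f : Matrix (Fin 2) (Fin 2) F ≃ₗ[F] Matrix (Fin 2) (Fin 2) F :=
    { g2s_fX g with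
      invFun := g2s_fX g⁻¹
      left_inv := hleft
      right_inv := hright }
  have hf : ∀ X, f X = g2s_fX g X := fun X => rfl
  have hmul : ∀ X X', f (X * X') = f X * f X' := by
    intro X X'
    rw [hf, hf, hf]
    have h1 := g2s_A_zornMul g (g2s_iota X 0) (g2s_iota X' 0)
    rw [g2s_zornMul_iota_XX, hAX, hAX, hAX, g2s_zornMul_iota_XX] at h1
    exact (g2s_iota_inj h1).1
  obtain ⟨c, hc⟩ := g2s_skolem_noether_lin f hmul
  have hc' : ∀ X, g2s_fX g X = (c : Matrix (Fin 2) (Fin 2) F) * X *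
      ((c⁻¹ : GL (Fin 2) F) : Matrix (Fin 2) (Fin 2) F) := fun X => by rw [← hf, hc]
  -- the image of `ι 0 1`
  set P : Matrix (Fin 2) (Fin 2) F := g2s_prY (g2s_A g (g2s_iota 0 1)) with hP
  have hA1 : g2s_A g (g2s_iota 0 1) = g2s_iota 0 P := g2s_A_Y h2 hg 1
  have hsq : zornMul (g2s_iota (0 : Matrix (Fin 2) (Fin 2) F) 1) (g2s_iota 0 1) =
      g2s_iota 1 0 := by
    rw [g2s_zornMul_iota]
    simp
  have hPP : adjugate P * P = 1 := by
    have h1 := g2s_A_zornMul g (g2s_iota 0 1) (g2s_iota 0 1)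
    rw [hsq, hA1, hAX, hc', g2s_zornMul_iota] at h1
    have h3 := (g2s_iota_inj h1).1
    rw [Matrix.mul_one, ← Units.val_mul, mul_inv_cancel, Units.val_one] at h3
    simpa using h3.symm
  have hdetP : P.det = 1 := by
    rw [Matrix.adjugate_mul] at hPP
    have := congrFun (congrFun hPP 0) 0
    simpa using this
  -- `ι 0 Y = (ι Y 0)(ι 0 1)`
  have hY : ∀ Y : Matrix (Fin 2) (Fin 2) F,
      g2s_A g (g2s_iota 0 Y) = g2s_iota 0 (P * ((c : Matrix (Fin 2) (Fin 2) F) * Y *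
        ((c⁻¹ : GL (Fin 2) F) : Matrix (Fin 2) (Fin 2) F))) := by
    intro Y
    have h0 : g2s_iota (0 : Matrix (Fin 2) (Fin 2) F) Y =
        zornMul (g2s_iota Y 0) (g2s_iota 0 1) := by
      rw [g2s_zornMul_iota]
      simp
    rw [h0, g2s_A_zornMul, hAX, hA1, hc', g2s_zornMul_iota]
    simp
  -- the pair
  have hPu : IsUnit P.det := by rw [hdetP]; exact isUnit_one
  let Pu : GL (Fin 2) F := Matrix.GeneralLinearGroup.mk'' P hPu
  have hPuv : (Pu : Matrix (Fin 2) (Fin 2) F) = P := rfl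
  have hmem : (c, Pu * c) ∈ g2s_Lam F := by
    rw [g2s_mem_Lam]
    show (c : Matrix (Fin 2) (Fin 2) F).det = ((Pu * c : GL (Fin 2) F) : Matrix (Fin 2) (Fin 2) F).det
    rw [Units.val_mul, Matrix.det_mul, hPuv, hdetP, one_mul]
  refine ⟨⟨(c, Pu * c), hmem⟩, ?_⟩
  apply Subtype.ext
  apply g2s_GL_ext
  intro X Y
  rw [g2s_Phi_mulVec]
  show _ = g2s_A g (g2s_iota X Y)
  rw [g2s_iota_split X Y, g2s_A_add, hAX, hc', hY, ← g2s_iota_add, add_zero, zero_add]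
  congr 1
  show ((Pu * c : GL (Fin 2) F) : Matrix (Fin 2) (Fin 2) F) * Y * _ = _
  rw [Units.val_mul, hPuv, Matrix.mul_assoc, Matrix.mul_assoc, Matrix.mul_assoc]

end Cfsg.Agent.G2S
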