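import Mathlib

set_option autoImplicit false

/-!
S4632, package P6 (C'): the counting.  Over a finite field `F` of odd order `q`, let `N ≤ GL₂(F)` be
the group of similitudes `!![x, -y; y, x]`, `!![x, y; y, -x]` (`x² + y² ≠ 0`) of the form `X² + Y²`.
Then `[GL₂(F) : N]` is odd, and so is `[Λ : M]` for `Λ = {(c, d) | det c = det d}` and
`M = Λ ∩ (N × N)`.
-/

namespace Cfsg.Agent.G2S

open Matrix

set_option linter.unusedSectionVars false

variable {F : Type*} [Field F] [Fintype F]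

/-- Pairs with `x² + y² ≠ 0`, when `-1` is not a square: all but `(0, 0)`. -/
theorem g2s_card_pairs_nonsq (h : ¬ IsSquare (-1 : F)) :
    Nat.card {p : F × F // p.1 ^ 2 + p.2 ^ 2 ≠ 0} = Fintype.card F ^ 2 - 1 := by
  classical
  have hiff : ∀ p : F × F, p.1 ^ 2 + p.2 ^ 2 ≠ 0 ↔ p ≠ 0 := by
    intro p
    constructor
    · rintro h1 rfl
      exact h1 (by simp)
    · intro hp h0
      by_cases hy : p.2 = 0
      · rw [hy] at h0
        have hx : p.1 = 0 := by
          have : p.1 ^ 2 = 0 := by simpa using h0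
          exact pow_eq_zero_iff (two_ne_zero) |>.mp this
        exact hp (Prod.ext hx hy)
      · apply h
        refine ⟨p.1 / p.2, ?_⟩
        have h1 : p.1 ^ 2 = -(p.2 ^ 2) := eq_neg_of_add_eq_zero_left h0
        field_simp
        exact h1.symm
  rw [Nat.card_congr (Equiv.subtypeEquivRight hiff), Nat.card_eq_fintype_card,
    Fintype.card_subtype_compl, Fintype.card_subtype_eq, Fintype.card_prod, pow_two]

/-- Pairs with `x² + y² ≠ 0`, when `-1` is a square and `2 ≠ 0`. -/
theorem g2s_card_pairs_sq (h2 : (2 : F) ≠ 0) (h : IsSquare (-1 : F)) :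
    Nat.card {p : F × F // p.1 ^ 2 + p.2 ^ 2 ≠ 0} = (Fintype.card F - 1) ^ 2 := by
  classical
  obtain ⟨i, hi⟩ := h
  have hii : i * i = -1 := hi.symm
  have hi0 : i ≠ 0 := by
    rintro rfl
    simp at hii
  -- the change of variables `(x, y) ↦ (x + i y, x - i y)`
  let e : {p : F × F // p.1 ^ 2 + p.2 ^ 2 ≠ 0} ≃ Fˣ × Fˣ :=
    { toFun := fun p => (Units.mk0 (p.1.1 + i * p.1.2) (by
          intro h0
          apply p.2
          have : p.1.1 ^ 2 + p.1.2 ^ 2 = (p.1.1 + i * p.1.2) * (p.1.1 - i * p.1.2) := by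
            have : (p.1.1 + i * p.1.2) * (p.1.1 - i * p.1.2) =
                p.1.1 ^ 2 - (i * i) * p.1.2 ^ 2 := by ring
            rw [this, hii]; ring
          rw [this, h0, zero_mul]),
        Units.mk0 (p.1.1 - i * p.1.2) (by
          intro h0
          apply p.2
          have : p.1.1 ^ 2 + p.1.2 ^ 2 = (p.1.1 + i * p.1.2) * (p.1.1 - i * p.1.2) := by
            have : (p.1.1 + i * p.1.2) * (p.1.1 - i * p.1.2) =
                p.1.1 ^ 2 - (i * i) * p.1.2 ^ 2 := by ring
            rw [this, hii]; ring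
          rw [this, h0, mul_zero]))
      invFun := fun uv => ⟨(((uv.1 : F) + (uv.2 : F)) / 2, ((uv.1 : F) - (uv.2 : F)) / (2 * i)), by
        have : (((uv.1 : F) + (uv.2 : F)) / 2) ^ 2 + (((uv.1 : F) - (uv.2 : F)) / (2 * i)) ^ 2 =
            (uv.1 : F) * (uv.2 : F) := by
          have hi2 : i ^ 2 = -1 := by rw [pow_two, hii]
          field_simp
          rw [hi2]
          ring
        rw [this]
        exact mul_ne_zero uv.1.ne_zero uv.2.ne_zero⟩
      left_inv := by
        rintro ⟨⟨x, y⟩, hp⟩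
        apply Subtype.ext
        apply Prod.ext
        · simp only [Units.val_mk0]
          field_simp
          ring
        · simp only [Units.val_mk0]
          field_simp
          ring
      right_inv := by
        rintro ⟨u, v⟩
        apply Prod.ext
        · apply Units.ext
          simp only [Units.val_mk0]
          field_simp
          ring
        · apply Units.ext
          simp only [Units.val_mk0]
          field_simp
          ring }
  rw [Nat.card_congr e, Nat.card_prod, Nat.card_eq_fintype_card, Fintype.card_units, pow_two]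


/-- The two shapes of elements of `N`. -/
def g2s_shapeA (x y : F) : Matrix (Fin 2) (Fin 2) F := !![x, -y; y, x]

def g2s_shapeB (x y : F) : Matrix (Fin 2) (Fin 2) F := !![x, y; y, -x]

theorem g2s_det_shapeA (x y : F) : (g2s_shapeA x y).det = x ^ 2 + y ^ 2 := by
  unfold g2s_shapeA
  rw [Matrix.det_fin_two_of]
  ring

theorem g2s_det_shapeB (x y : F) : (g2s_shapeB x y).det = -(x ^ 2 + y ^ 2) := by
  unfold g2s_shapeB
  rw [Matrix.det_fin_two_of]
  ring

/-- The order of `N`. -/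
theorem g2s_card_N (h2 : (2 : F) ≠ 0) (N : Subgroup (GL (Fin 2) F))
    (hN : ∀ c : GL (Fin 2) F, c ∈ N ↔ ∃ x y : F, x ^ 2 + y ^ 2 ≠ 0 ∧
      ((c : Matrix (Fin 2) (Fin 2) F) = !![x, -y; y, x] ∨
        (c : Matrix (Fin 2) (Fin 2) F) = !![x, y; y, -x])) :
    Nat.card N = 2 * Nat.card {p : F × F // p.1 ^ 2 + p.2 ^ 2 ≠ 0} := by
  classical
  let f : {p : F × F // p.1 ^ 2 + p.2 ^ 2 ≠ 0} × Bool → N := fun pb =>
    if hb : pb.2 = true then
      ⟨Matrix.GeneralLinearGroup.mkOfDetNeZero (g2s_shapeB pb.1.1.1 pb.1.1.2) (by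
          rw [g2s_det_shapeB]; exact neg_ne_zero.mpr pb.1.2),
        (hN _).mpr ⟨pb.1.1.1, pb.1.1.2, pb.1.2, Or.inr rfl⟩⟩
    else
      ⟨Matrix.GeneralLinearGroup.mkOfDetNeZero (g2s_shapeA pb.1.1.1 pb.1.1.2) (by
          rw [g2s_det_shapeA]; exact pb.1.2),
        (hN _).mpr ⟨pb.1.1.1, pb.1.1.2, pb.1.2, Or.inl rfl⟩⟩
  have hfA : ∀ (p : {p : F × F // p.1 ^ 2 + p.2 ^ 2 ≠ 0}),
      (((f (p, false) : N) : GL (Fin 2) F) : Matrix (Fin 2) (Fin 2) F) = g2s_shapeA p.1.1 p.1.2 := by
    intro p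
    simp only [f, Bool.false_eq_true, dif_neg, not_false_eq_true]
    rfl
  have hfB : ∀ (p : {p : F × F // p.1 ^ 2 + p.2 ^ 2 ≠ 0}),
      (((f (p, true) : N) : GL (Fin 2) F) : Matrix (Fin 2) (Fin 2) F) = g2s_shapeB p.1.1 p.1.2 := by
    intro p
    simp only [f, dif_pos]
    rfl
  have hinj : Function.Injective f := by
    rintro ⟨⟨⟨x, y⟩, hp⟩, b⟩ ⟨⟨⟨x', y'⟩, hp'⟩, b'⟩ h
    have hm : (((f (⟨(x, y), hp⟩, b) : N) : GL (Fin 2) F) : Matrix (Fin 2) (Fin 2) F) =
        (((f (⟨(x', y'), hp'⟩, b') : N) : GL (Fin 2) F) : Matrix (Fin 2) (Fin 2) F) := by rw [h]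
    cases b <;> cases b'
    · rw [hfA, hfA] at hm
      have h00 := congrFun (congrFun hm 0) 0
      have h10 := congrFun (congrFun hm 1) 0
      simp [g2s_shapeA] at h00 h10
      subst h00 h10
      rfl
    · exfalso
      rw [hfA, hfB] at hm
      have h00 := congrFun (congrFun hm 0) 0
      have h11 := congrFun (congrFun hm 1) 1
      have h10 := congrFun (congrFun hm 1) 0
      have h01 := congrFun (congrFun hm 0) 1
      simp [g2s_shapeA, g2s_shapeB] at h00 h11 h10 h01
      -- x = x', x = -x', y = y', -y = y'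
      have hx : x = 0 := by
        have : (2 : F) * x = 0 := by linear_combination h00 + h11
        rcases mul_eq_zero.mp this with h | h
        · exact absurd h h2
        · exact h
      have hy : y = 0 := by
        have : (2 : F) * y = 0 := by linear_combination h10 - h01
        rcases mul_eq_zero.mp this with h | h
        · exact absurd h h2
        · exact h
      apply hp
      simp [hx, hy]
    · exfalso
      rw [hfB, hfA] at hm
      have h00 := congrFun (congrFun hm 0) 0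
      have h11 := congrFun (congrFun hm 1) 1
      have h10 := congrFun (congrFun hm 1) 0
      have h01 := congrFun (congrFun hm 0) 1
      simp [g2s_shapeA, g2s_shapeB] at h00 h11 h10 h01
      have hx : x' = 0 := by
        have : (2 : F) * x' = 0 := by linear_combination (-1 : F) * h00 + (-1 : F) * h11
        rcases mul_eq_zero.mp this with h | h
        · exact absurd h h2
        · exact h
      have hy : y' = 0 := by
        have : (2 : F) * y' = 0 := by linear_combination (-1 : F) * h10 + h01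
        rcases mul_eq_zero.mp this with h | h
        · exact absurd h h2
        · exact h
      apply hp'
      simp [hx, hy]
    · rw [hfB, hfB] at hm
      have h00 := congrFun (congrFun hm 0) 0
      have h10 := congrFun (congrFun hm 1) 0
      simp [g2s_shapeB] at h00 h10
      subst h00 h10
      rfl
  have hsurj : Function.Surjective f := by
    rintro ⟨c, hc⟩
    obtain ⟨x, y, hxy, h | h⟩ := (hN c).mp hc
    · refine ⟨(⟨(x, y), hxy⟩, false), ?_⟩
      apply Subtype.ext
      apply Units.ext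
      rw [hfA]
      exact h.symm
    · refine ⟨(⟨(x, y), hxy⟩, true), ?_⟩
      apply Subtype.ext
      apply Units.ext
      rw [hfB]
      exact h.symm
  rw [← Nat.card_congr (Equiv.ofBijective f ⟨hinj, hsurj⟩), Nat.card_prod, Nat.card_eq_fintype_card
    (α := Bool), Fintype.card_bool, mul_comm]


theorem g2s_cnt_two_ne_zero (hF : Odd (Fintype.card F)) : (2 : F) ≠ 0 := by
  apply Ring.two_ne_zero
  intro h
  have := FiniteField.even_card_iff_char_two.mp h
  rcases hF with ⟨m, hm⟩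
  omega

/-- `[GL₂(F) : N]` is odd. -/
theorem g2s_index_odd_GL2 (hF : Odd (Fintype.card F)) (N : Subgroup (GL (Fin 2) F))
    (hN : ∀ c : GL (Fin 2) F, c ∈ N ↔ ∃ x y : F, x ^ 2 + y ^ 2 ≠ 0 ∧
      ((c : Matrix (Fin 2) (Fin 2) F) = !![x, -y; y, x] ∨
        (c : Matrix (Fin 2) (Fin 2) F) = !![x, y; y, -x])) :
    Odd N.index := by
  classical
  have h2 := g2s_cnt_two_ne_zero hF
  have hcardN := g2s_card_N h2 N hN
  have hGL : Nat.card (GL (Fin 2) F) =
      (Fintype.card F ^ 2 - 1) * (Fintype.card F ^ 2 - Fintype.card F) := by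
    rw [Matrix.card_GL_field, Fin.prod_univ_two]
    simp
  have hidx := Subgroup.index_mul_card N
  rw [hGL, hcardN] at hidx
  have hq1 : 1 < Fintype.card F := Fintype.one_lt_card
  set q := Fintype.card F with hq
  by_cases hsq : IsSquare (-1 : F)
  · -- `q ≡ 1 (mod 4)`
    have hmod : q % 4 = 1 := by
      have h3 := FiniteField.isSquare_neg_one_iff.mp hsq
      rcases hF with ⟨m, hm⟩
      omega
    obtain ⟨k, hk⟩ : ∃ k, q = 4 * k + 1 := ⟨q / 4, by omega⟩
    have hk1 : 1 ≤ k := by omega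
    rw [g2s_card_pairs_sq h2 hsq, ← hq, hk] at hidx
    have e1 : (4 * k + 1) ^ 2 - 1 = 16 * k ^ 2 + 8 * k := by
      have : (4 * k + 1) ^ 2 = 16 * k ^ 2 + 8 * k + 1 := by ring
      omega
    have e2 : (4 * k + 1) ^ 2 - (4 * k + 1) = 16 * k ^ 2 + 4 * k := by
      have : (4 * k + 1) ^ 2 = 16 * k ^ 2 + 4 * k + (4 * k + 1) := by ring
      omega
    have e3 : 4 * k + 1 - 1 = 4 * k := by omega
    rw [e1, e2, e3] at hidx
    have hpos : 0 < 32 * k ^ 2 := by positivity
    have h4 : N.index * (32 * k ^ 2) = ((2 * k + 1) * (4 * k + 1)) * (32 * k ^ 2) := by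
      have : N.index * (2 * (4 * k) ^ 2) = N.index * (32 * k ^ 2) := by ring
      rw [← this, hidx]
      ring
    have h5 : N.index = (2 * k + 1) * (4 * k + 1) := Nat.eq_of_mul_eq_mul_right hpos h4
    rw [h5]
    exact Odd.mul ⟨k, by ring⟩ ⟨2 * k, by ring⟩
  · -- `q ≡ 3 (mod 4)`
    have hmod : q % 4 = 3 := by
      by_contra h3
      exact hsq (FiniteField.isSquare_neg_one_iff.mpr h3)
    obtain ⟨k, hk⟩ : ∃ k, q = 4 * k + 3 := ⟨q / 4, by omega⟩
    rw [g2s_card_pairs_nonsq hsq, ← hq, hk] at hidx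
    have e1 : (4 * k + 3) ^ 2 - 1 = 16 * k ^ 2 + 24 * k + 8 := by
      have : (4 * k + 3) ^ 2 = 16 * k ^ 2 + 24 * k + 8 + 1 := by ring
      omega
    have e2 : (4 * k + 3) ^ 2 - (4 * k + 3) = 16 * k ^ 2 + 20 * k + 6 := by
      have : (4 * k + 3) ^ 2 = 16 * k ^ 2 + 20 * k + 6 + (4 * k + 3) := by ring
      omega
    rw [e1, e2] at hidx
    have hpos : 0 < 2 * (16 * k ^ 2 + 24 * k + 8) := by positivity
    have h4 : N.index * (2 * (16 * k ^ 2 + 24 * k + 8)) =
        (8 * k ^ 2 + 10 * k + 3) * (2 * (16 * k ^ 2 + 24 * k + 8)) := by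
      rw [hidx]
      ring
    have h5 : N.index = 8 * k ^ 2 + 10 * k + 3 := Nat.eq_of_mul_eq_mul_right hpos h4
    rw [h5]
    exact ⟨4 * k ^ 2 + 5 * k + 1, by ring⟩


/-- `x² + y²` represents every element of a finite field of odd order. -/
theorem g2s_exists_sq_add_sq (hF : Odd (Fintype.card F)) (a : F) : ∃ u v : F, u ^ 2 + v ^ 2 = a := by
  classical
  have hR : Fintype.card F % 2 = 1 := Nat.odd_iff.mp hF
  obtain ⟨u, v, h⟩ := FiniteField.exists_root_sum_quadratic
    (f := (Polynomial.X : Polynomial F) ^ 2) (g := (Polynomial.X : Polynomial F) ^ 2 - Polynomial.C a)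
    (Polynomial.degree_X_pow 2) (Polynomial.degree_X_pow_sub_C (by decide) a) hR
  refine ⟨u, v, ?_⟩
  simp only [Polynomial.eval_pow, Polynomial.eval_X, Polynomial.eval_sub, Polynomial.eval_C] at h
  linear_combination h

/-- `[Λ : Λ ∩ (N × N)]` is odd, `Λ = {(c, d) | det c = det d}`. -/
theorem g2s_index_odd (hF : Odd (Fintype.card F)) (Λ : Subgroup (GL (Fin 2) F × GL (Fin 2) F))
    (hΛ : ∀ p : GL (Fin 2) F × GL (Fin 2) F, p ∈ Λ ↔
      (p.1 : Matrix (Fin 2) (Fin 2) F).det = (p.2 : Matrix (Fin 2) (Fin 2) F).det)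
    (N : Subgroup (GL (Fin 2) F))
    (hN : ∀ c : GL (Fin 2) F, c ∈ N ↔ ∃ x y : F, x ^ 2 + y ^ 2 ≠ 0 ∧
      ((c : Matrix (Fin 2) (Fin 2) F) = !![x, -y; y, x] ∨
        (c : Matrix (Fin 2) (Fin 2) F) = !![x, y; y, -x]))
    (M : Subgroup ↥Λ) (hM : ∀ p : ↥Λ, p ∈ M ↔ p.1.1 ∈ N ∧ p.1.2 ∈ N) : Odd M.index := by
  classical
  have hNodd := g2s_index_odd_GL2 hF N hN
  -- the action of `Λ` on `(GL₂ ⧸ N) × (GL₂ ⧸ N)`
  letI act : MulAction ↥Λ ((GL (Fin 2) F ⧸ N) × (GL (Fin 2) F ⧸ N)) :=
    { smul := fun p a => (p.1.1 • a.1, p.1.2 • a.2)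
      one_smul := by
        rintro ⟨a, b⟩
        change (((1 : ↥Λ) : GL (Fin 2) F × GL (Fin 2) F).1 • a,
          ((1 : ↥Λ) : GL (Fin 2) F × GL (Fin 2) F).2 • b) = (a, b)
        simp
      mul_smul := by
        rintro p p' ⟨a, b⟩
        change (((p * p' : ↥Λ) : GL (Fin 2) F × GL (Fin 2) F).1 • a,
          ((p * p' : ↥Λ) : GL (Fin 2) F × GL (Fin 2) F).2 • b) =
          (p.1.1 • (p'.1.1 • a), p.1.2 • (p'.1.2 • b))
        simp [mul_smul] }
  have hsmul : ∀ (p : ↥Λ) (a b : GL (Fin 2) F),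
      p • (((a : GL (Fin 2) F ⧸ N)), ((b : GL (Fin 2) F ⧸ N))) =
        (((p.1.1 * a : GL (Fin 2) F) : GL (Fin 2) F ⧸ N), ((p.1.2 * b : GL (Fin 2) F) : GL (Fin 2) F ⧸ N)) :=
    fun p a b => rfl
  set x0 : (GL (Fin 2) F ⧸ N) × (GL (Fin 2) F ⧸ N) :=
    (((1 : GL (Fin 2) F) : GL (Fin 2) F ⧸ N), ((1 : GL (Fin 2) F) : GL (Fin 2) F ⧸ N)) with hx0
  have hstab : MulAction.stabilizer ↥Λ x0 = M := by
    ext p
    rw [MulAction.mem_stabilizer_iff, hM, hx0, hsmul, Prod.ext_iff]
    simp only [mul_one]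
    rw [eq_comm, QuotientGroup.eq, eq_comm (a := ((p.1.2 : GL (Fin 2) F) : GL (Fin 2) F ⧸ N)),
      QuotientGroup.eq, inv_one, one_mul, one_mul]
  have horb : MulAction.orbit ↥Λ x0 = Set.univ := by
    rw [Set.eq_univ_iff_forall]
    rintro ⟨a, b⟩
    induction a using QuotientGroup.induction_on with
    | H x =>
      induction b using QuotientGroup.induction_on with
      | H y =>
        -- `n₁ ∈ N` with `det n₁ = det y / det x`
        have hdx : (x : Matrix (Fin 2) (Fin 2) F).det ≠ 0 := (Matrix.isUnits_det_units x).ne_zero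
        have hdy : (y : Matrix (Fin 2) (Fin 2) F).det ≠ 0 := (Matrix.isUnits_det_units y).ne_zero
        obtain ⟨u, v, huv⟩ := g2s_exists_sq_add_sq hF
          ((y : Matrix (Fin 2) (Fin 2) F).det / (x : Matrix (Fin 2) (Fin 2) F).det)
        have hne : u ^ 2 + v ^ 2 ≠ 0 := by
          rw [huv]
          exact div_ne_zero hdy hdx
        set n₁ : GL (Fin 2) F := Matrix.GeneralLinearGroup.mkOfDetNeZero (g2s_shapeA u v) (by
          rw [g2s_det_shapeA]; exact hne) with hn₁
        have hn₁N : n₁ ∈ N := (hN n₁).mpr ⟨u, v, hne, Or.inl rfl⟩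
        have hdet : (n₁ : Matrix (Fin 2) (Fin 2) F).det =
            (y : Matrix (Fin 2) (Fin 2) F).det / (x : Matrix (Fin 2) (Fin 2) F).det := by
          rw [← huv, ← g2s_det_shapeA]
          rfl
        have hpΛ : ((x * n₁, y) : GL (Fin 2) F × GL (Fin 2) F) ∈ Λ := by
          rw [hΛ]
          simp only [Units.val_mul, Matrix.det_mul]
          rw [hdet]
          field_simp
        refine ⟨⟨(x * n₁, y), hpΛ⟩, ?_⟩
        rw [hx0]
        change (((x * n₁ * 1 : GL (Fin 2) F) : GL (Fin 2) F ⧸ N),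
          ((y * 1 : GL (Fin 2) F) : GL (Fin 2) F ⧸ N)) = _
        rw [mul_one, mul_one]
        apply Prod.ext
        · change ((x * n₁ : GL (Fin 2) F) : GL (Fin 2) F ⧸ N) = (x : GL (Fin 2) F ⧸ N)
          rw [QuotientGroup.eq]
          have : (x * n₁)⁻¹ * x = n₁⁻¹ := by group
          rw [this]
          exact N.inv_mem hn₁N
        · rfl
  have hidx := MulAction.index_stabilizer (G := ↥Λ) (x := x0)
  rw [hstab, horb, Set.ncard_univ, Nat.card_prod] at hidx
  rw [hidx]
  exact Odd.mul hNodd hNodd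

end Cfsg.Agent.G2S
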