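import Mathlib
import Cfsg.Prelude.Def_G2
import Cfsg.Agent.G2S.Oct

set_option autoImplicit false

namespace Cfsg.Agent.G2S

open Cfsg.Lie Matrix

variable {F : Type*} [Field F]

/-- The action of an invertible matrix on `F⁸`. -/
def g2s_act (g : GL (Fin 8) F) (x : Fin 8 → F) : Fin 8 → F := (g : Matrix (Fin 8) (Fin 8) F) *ᵥ x

theorem g2s_mem_G2_iff (g : GL (Fin 8) F) :
    g ∈ G2 F ↔ ∀ x y, g2s_act g (zornMul x y) = zornMul (g2s_act g x) (g2s_act g y) := Iff.rfl

theorem g2s_act_add (g : GL (Fin 8) F) (x y : Fin 8 → F) :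
    g2s_act g (x + y) = g2s_act g x + g2s_act g y := Matrix.mulVec_add _ _ _

theorem g2s_act_smul (g : GL (Fin 8) F) (c : F) (x : Fin 8 → F) :
    g2s_act g (c • x) = c • g2s_act g x := Matrix.mulVec_smul _ _ _

theorem g2s_act_sub (g : GL (Fin 8) F) (x y : Fin 8 → F) :
    g2s_act g (x - y) = g2s_act g x - g2s_act g y := Matrix.mulVec_sub _ _ _

theorem g2s_act_mul (g h : GL (Fin 8) F) (x : Fin 8 → F) :
    g2s_act (g * h) x = g2s_act g (g2s_act h x) := by
  unfold g2s_act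
  rw [Units.val_mul, Matrix.mulVec_mulVec]

theorem g2s_act_one (x : Fin 8 → F) : g2s_act (1 : GL (Fin 8) F) x = x := by
  unfold g2s_act
  rw [Units.val_one, Matrix.one_mulVec]

theorem g2s_act_inv_act (g : GL (Fin 8) F) (x : Fin 8 → F) : g2s_act g⁻¹ (g2s_act g x) = x := by
  rw [← g2s_act_mul, inv_mul_cancel, g2s_act_one]

theorem g2s_act_act_inv (g : GL (Fin 8) F) (x : Fin 8 → F) : g2s_act g (g2s_act g⁻¹ x) = x := by
  rw [← g2s_act_mul, mul_inv_cancel, g2s_act_one]

/-- Automorphisms fix the unit. -/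
theorem g2s_act_e {g : GL (Fin 8) F} (hg : g ∈ G2 F) : g2s_act g (g2s_e F) = g2s_e F := by
  have h1 : ∀ v, zornMul (g2s_act g (g2s_e F)) v = v := by
    intro v
    have := (g2s_mem_G2_iff g).mp hg (g2s_e F) (g2s_act g⁻¹ v)
    rw [g2s_e_mul, g2s_act_act_inv] at this
    exact this.symm
  have := h1 (g2s_e F)
  rwa [g2s_mul_e] at this

theorem g2s_e_ne_zero : g2s_e F ≠ 0 := by
  intro h
  have := congrFun h 0
  simp [g2s_e] at this

/-- Automorphisms preserve the trace. -/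
theorem g2s_T_act {g : GL (Fin 8) F} (hg : g ∈ G2 F) (x : Fin 8 → F) :
    g2s_T (g2s_act g x) = g2s_T x := by
  have hq1 := g2s_sq (g2s_act g x)
  have hq2 : zornMul (g2s_act g x) (g2s_act g x) =
      g2s_T x • g2s_act g x - g2s_N x • g2s_e F := by
    rw [← (g2s_mem_G2_iff g).mp hg x x, g2s_sq x, g2s_act_sub, g2s_act_smul, g2s_act_smul,
      g2s_act_e hg]
  have h3 : (g2s_T (g2s_act g x) - g2s_T x) • g2s_act g x =
      (g2s_N (g2s_act g x) - g2s_N x) • g2s_e F := by
    have := hq1.symm.trans hq2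
    rw [sub_smul, sub_smul]
    rw [sub_eq_sub_iff_add_eq_add] at this ⊢
    rw [this]
    abel
  by_contra hne
  have hd : g2s_T (g2s_act g x) - g2s_T x ≠ 0 := sub_ne_zero.mpr hne
  set μ := (g2s_T (g2s_act g x) - g2s_T x)⁻¹ * (g2s_N (g2s_act g x) - g2s_N x) with hμ
  have h4 : g2s_act g x = μ • g2s_e F := by
    have := congrArg (fun v => (g2s_T (g2s_act g x) - g2s_T x)⁻¹ • v) h3
    simp only [smul_smul, inv_mul_cancel₀ hd, one_smul] at this
    rw [this, hμ]
  have h5 : x = μ • g2s_e F := by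
    have := congrArg (g2s_act g⁻¹) h4
    rw [g2s_act_inv_act, g2s_act_smul, g2s_act_e ((G2 F).inv_mem hg)] at this
    exact this
  apply hne
  rw [h4, ← h5]

/-- Automorphisms preserve the norm. -/
theorem g2s_N_act {g : GL (Fin 8) F} (hg : g ∈ G2 F) (x : Fin 8 → F) :
    g2s_N (g2s_act g x) = g2s_N x := by
  have hq1 := g2s_sq (g2s_act g x)
  have hq2 : zornMul (g2s_act g x) (g2s_act g x) =
      g2s_T x • g2s_act g x - g2s_N x • g2s_e F := by
    rw [← (g2s_mem_G2_iff g).mp hg x x, g2s_sq x, g2s_act_sub, g2s_act_smul, g2s_act_smul,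
      g2s_act_e hg]
  rw [g2s_T_act hg] at hq1
  have h3 : g2s_N (g2s_act g x) • g2s_e F = g2s_N x • g2s_e F := by
    have := hq1.symm.trans hq2
    exact sub_right_injective this
  have := congrFun h3 0
  simpa [g2s_e] using this

/-- Automorphisms preserve the polar form of the norm. -/
theorem g2s_B_act {g : GL (Fin 8) F} (hg : g ∈ G2 F) (x y : Fin 8 → F) :
    g2s_B (g2s_act g x) (g2s_act g y) = g2s_B x y := by
  have h1 := g2s_N_add (g2s_act g x) (g2s_act g y)
  have h2 := g2s_N_add x y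
  rw [← g2s_act_add, g2s_N_act hg, g2s_N_act hg, g2s_N_act hg] at h1
  rw [h2] at h1
  exact (add_left_cancel h1).symm

/-- Automorphisms commute with conjugation. -/
theorem g2s_conj_act {g : GL (Fin 8) F} (hg : g ∈ G2 F) (x : Fin 8 → F) :
    g2s_conj (g2s_act g x) = g2s_act g (g2s_conj x) := by
  unfold g2s_conj
  rw [g2s_act_sub, g2s_act_smul, g2s_act_e hg, g2s_T_act hg]

end Cfsg.Agent.G2S
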