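import Mathlib
import Cfsg.Prelude.Def_G2
import Cfsg.Agent.G2S.OctAut
import Cfsg.Agent.G2S.Oct2

set_option autoImplicit false

/-!
An involution `z` of the split octonion algebra over a field of characteristic not two:
the eigenspaces `O₊`, `O₋`; `O₊` is a four-dimensional subalgebra, `O₋ = O₊ a` for any
`a ∈ O₋` of non-zero norm.
-/

namespace Cfsg.Agent.G2S

open Cfsg.Lie Matrix

variable {F : Type*} [Field F]

/-- The fixed space of `z`. -/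
def g2s_Hp (z : GL (Fin 8) F) : Submodule F (Fin 8 → F) where
  carrier := {x | g2s_act z x = x}
  add_mem' {x y} hx hy := by
    change g2s_act z (x + y) = x + y
    rw [g2s_act_add, hx, hy]
  zero_mem' := by
    change g2s_act z 0 = 0
    unfold g2s_act
    exact Matrix.mulVec_zero _
  smul_mem' c x hx := by
    change g2s_act z (c • x) = c • x
    rw [g2s_act_smul, hx]

/-- The `-1`-eigenspace of `z`. -/
def g2s_Hm (z : GL (Fin 8) F) : Submodule F (Fin 8 → F) where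
  carrier := {x | g2s_act z x = -x}
  add_mem' {x y} hx hy := by
    change g2s_act z (x + y) = -(x + y)
    rw [g2s_act_add, hx, hy, neg_add]
  zero_mem' := by
    change g2s_act z 0 = -0
    unfold g2s_act
    rw [Matrix.mulVec_zero, neg_zero]
  smul_mem' c x hx := by
    change g2s_act z (c • x) = -(c • x)
    rw [g2s_act_smul, hx, smul_neg]

theorem g2s_mem_Hp {z : GL (Fin 8) F} {x : Fin 8 → F} : x ∈ g2s_Hp z ↔ g2s_act z x = x := Iff.rfl

theorem g2s_mem_Hm {z : GL (Fin 8) F} {x : Fin 8 → F} : x ∈ g2s_Hm z ↔ g2s_act z x = -x :=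
  Iff.rfl

theorem g2s_act_neg (g : GL (Fin 8) F) (x : Fin 8 → F) : g2s_act g (-x) = -g2s_act g x := by
  unfold g2s_act
  exact Matrix.mulVec_neg _ _

theorem g2s_neg_mul (x y : Fin 8 → F) : zornMul (-x) y = -zornMul x y := by
  have := g2s_smul_mul (-1 : F) x y
  simpa using this

theorem g2s_mul_neg (x y : Fin 8 → F) : zornMul x (-y) = -zornMul x y := by
  have := g2s_mul_smul (-1 : F) x y
  simpa using this

section inv

variable {z : GL (Fin 8) F} (hz : z ∈ G2 F) (hzz : z * z = 1)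

include hzz in
theorem g2s_act_act_self (x : Fin 8 → F) : g2s_act z (g2s_act z x) = x := by
  rw [← g2s_act_mul, hzz, g2s_act_one]

include hzz in
/-- (B1) the decomposition. -/
theorem g2s_decomp (h2 : (2 : F) ≠ 0) (x : Fin 8 → F) :
    ∃ u ∈ g2s_Hp z, ∃ v ∈ g2s_Hm z, x = u + v := by
  refine ⟨(2 : F)⁻¹ • (x + g2s_act z x), ?_, (2 : F)⁻¹ • (x - g2s_act z x), ?_, ?_⟩
  · rw [g2s_mem_Hp, g2s_act_smul, g2s_act_add, g2s_act_act_self hzz, add_comm]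
  · rw [g2s_mem_Hm, g2s_act_smul, g2s_act_sub, g2s_act_act_self hzz, ← smul_neg, neg_sub]
  · rw [← smul_add]
    have : x + g2s_act z x + (x - g2s_act z x) = (2 : F) • x := by
      rw [two_smul]; abel
    rw [this, smul_smul, inv_mul_cancel₀ h2, one_smul]

include hzz in
theorem g2s_Hp_sup_Hm (h2 : (2 : F) ≠ 0) : g2s_Hp z ⊔ g2s_Hm z = ⊤ := by
  rw [eq_top_iff]
  intro x _
  obtain ⟨u, hu, v, hv, rfl⟩ := g2s_decomp hzz h2 x
  exact Submodule.add_mem_sup hu hv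

theorem g2s_Hp_inf_Hm (h2 : (2 : F) ≠ 0) : g2s_Hp z ⊓ g2s_Hm z = ⊥ := by
  rw [eq_bot_iff]
  rintro x ⟨h1, h3⟩
  rw [SetLike.mem_coe, g2s_mem_Hp] at h1
  rw [SetLike.mem_coe, g2s_mem_Hm] at h3
  rw [Submodule.mem_bot]
  have h4 : x = -x := h1.symm.trans h3
  have h5 : (2 : F) • x = 0 := by
    rw [two_smul]
    nth_rewrite 1 [h4]
    exact neg_add_cancel x
  rcases smul_eq_zero.mp h5 with h | h
  · exact absurd h h2
  · exact h

include hz in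
/-- (B2) -/
theorem g2s_e_mem_Hp : g2s_e F ∈ g2s_Hp z := g2s_act_e hz

include hz in
theorem g2s_mul_mem_Hp_pp {x y : Fin 8 → F} (hx : x ∈ g2s_Hp z) (hy : y ∈ g2s_Hp z) :
    zornMul x y ∈ g2s_Hp z := by
  rw [g2s_mem_Hp] at *
  rw [(g2s_mem_G2_iff z).mp hz, hx, hy]

include hz in
theorem g2s_mul_mem_Hm_pm {x y : Fin 8 → F} (hx : x ∈ g2s_Hp z) (hy : y ∈ g2s_Hm z) :
    zornMul x y ∈ g2s_Hm z := by
  rw [g2s_mem_Hp] at hx
  rw [g2s_mem_Hm] at *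
  rw [(g2s_mem_G2_iff z).mp hz, hx, hy, g2s_mul_neg]

include hz in
theorem g2s_mul_mem_Hm_mp {x y : Fin 8 → F} (hx : x ∈ g2s_Hm z) (hy : y ∈ g2s_Hp z) :
    zornMul x y ∈ g2s_Hm z := by
  rw [g2s_mem_Hp] at hy
  rw [g2s_mem_Hm] at *
  rw [(g2s_mem_G2_iff z).mp hz, hx, hy, g2s_neg_mul]

include hz in
theorem g2s_mul_mem_Hp_mm {x y : Fin 8 → F} (hx : x ∈ g2s_Hm z) (hy : y ∈ g2s_Hm z) :
    zornMul x y ∈ g2s_Hp z := by
  rw [g2s_mem_Hm] at hx hy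
  rw [g2s_mem_Hp]
  rw [(g2s_mem_G2_iff z).mp hz, hx, hy, g2s_neg_mul, g2s_mul_neg, neg_neg]

include hz in
theorem g2s_conj_mem_Hp {x : Fin 8 → F} (hx : x ∈ g2s_Hp z) : g2s_conj x ∈ g2s_Hp z := by
  unfold g2s_conj
  exact Submodule.sub_mem _ (Submodule.smul_mem _ _ (g2s_e_mem_Hp hz)) hx

include hz in
/-- (B3) -/
theorem g2s_B_Hp_Hm (h2 : (2 : F) ≠ 0) {x y : Fin 8 → F} (hx : x ∈ g2s_Hp z)
    (hy : y ∈ g2s_Hm z) : g2s_B x y = 0 := by
  have h1 := g2s_B_act hz x y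
  rw [g2s_mem_Hp] at hx
  rw [g2s_mem_Hm] at hy
  rw [hx, hy] at h1
  have h3 : g2s_B x (-y) = -g2s_B x y := by
    simp only [g2s_B, Pi.neg_apply]
    ring
  rw [h3] at h1
  have h4 : (2 : F) * g2s_B x y = 0 := by linear_combination -h1
  rcases mul_eq_zero.mp h4 with h | h
  · exact absurd h h2
  · exact h

include hz in
theorem g2s_T_Hm (h2 : (2 : F) ≠ 0) {y : Fin 8 → F} (hy : y ∈ g2s_Hm z) : g2s_T y = 0 := by
  rw [g2s_T_eq_B, g2s_B_comm]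
  exact g2s_B_Hp_Hm hz h2 (g2s_e_mem_Hp hz) hy

include hz in
theorem g2s_conj_Hm (h2 : (2 : F) ≠ 0) {y : Fin 8 → F} (hy : y ∈ g2s_Hm z) :
    g2s_conj y = -y := by
  unfold g2s_conj
  rw [g2s_T_Hm hz h2 hy, zero_smul, zero_sub]

include hz in
theorem g2s_sq_Hm (h2 : (2 : F) ≠ 0) {y : Fin 8 → F} (hy : y ∈ g2s_Hm z) :
    zornMul y y = -(g2s_N y) • g2s_e F := by
  rw [g2s_sq, g2s_T_Hm hz h2 hy, zero_smul, zero_sub, neg_smul]

include hz hzz in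
/-- (B4) -/
theorem g2s_exists_anisotropic (h2 : (2 : F) ≠ 0) (hz1 : z ≠ 1) :
    ∃ a ∈ g2s_Hm z, g2s_N a ≠ 0 := by
  by_contra hcon
  push Not at hcon
  -- `N = 0` on `Hm`, so `B = 0` on `Hm`
  have hB : ∀ x ∈ g2s_Hm z, ∀ y ∈ g2s_Hm z, g2s_B x y = 0 := by
    intro x hx y hy
    have h1 := g2s_N_add x y
    rw [hcon _ (Submodule.add_mem _ hx hy), hcon x hx, hcon y hy] at h1
    simpa using h1.symm
  have hzero : ∀ a ∈ g2s_Hm z, a = 0 := by
    intro a ha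
    apply g2s_B_nondeg
    intro y
    obtain ⟨u, hu, v, hv, rfl⟩ := g2s_decomp hzz h2 y
    have h3 : g2s_B a (u + v) = g2s_B a u + g2s_B a v := by
      simp only [g2s_B, Pi.add_apply]
      ring
    rw [h3, hB a ha v hv, g2s_B_comm a u, g2s_B_Hp_Hm hz h2 hu ha, add_zero]
  apply hz1
  -- `z` acts trivially
  have hact : ∀ x, g2s_act z x = x := by
    intro x
    have hm : x - g2s_act z x ∈ g2s_Hm z := by
      rw [g2s_mem_Hm, g2s_act_sub, g2s_act_act_self hzz, neg_sub]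
    have := hzero _ hm
    exact (sub_eq_zero.mp this).symm
  apply Units.ext
  apply Matrix.ext_iff_mulVec.mpr
  intro x
  rw [Units.val_one, Matrix.one_mulVec]
  exact hact x

end inv

section dim

variable {z : GL (Fin 8) F} (hz : z ∈ G2 F) (hzz : z * z = 1)

include hz in
/-- `(x a) a = -N(a) x` for `a ∈ O₋`. -/
theorem g2s_mul_mul_Hm (h2 : (2 : F) ≠ 0) {a : Fin 8 → F} (ha : a ∈ g2s_Hm z)
    (x : Fin 8 → F) : zornMul (zornMul x a) a = (-(g2s_N a)) • x := by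
  rw [g2s_alt_right, g2s_sq_Hm hz h2 ha, g2s_mul_smul, g2s_mul_e]

include hz in
/-- (B5) `O₋ = O₊ a`. -/
theorem g2s_Hm_eq_mul (h2 : (2 : F) ≠ 0) {a : Fin 8 → F} (ha : a ∈ g2s_Hm z)
    (hNa : g2s_N a ≠ 0) {y : Fin 8 → F} (hy : y ∈ g2s_Hm z) :
    ∃ x ∈ g2s_Hp z, y = zornMul x a := by
  refine ⟨(-(g2s_N a))⁻¹ • zornMul y a,
    Submodule.smul_mem _ _ (g2s_mul_mem_Hp_mm hz hy ha), ?_⟩
  rw [g2s_smul_mul, g2s_mul_mul_Hm hz h2 ha, smul_smul, inv_mul_cancel₀ (neg_ne_zero.mpr hNa),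
    one_smul]

include hz in
/-- `O₊ = O₋ a`. -/
theorem g2s_Hp_eq_mul (h2 : (2 : F) ≠ 0) {a : Fin 8 → F} (ha : a ∈ g2s_Hm z)
    (hNa : g2s_N a ≠ 0) {x : Fin 8 → F} (hx : x ∈ g2s_Hp z) :
    ∃ y ∈ g2s_Hm z, x = zornMul y a := by
  refine ⟨(-(g2s_N a))⁻¹ • zornMul x a,
    Submodule.smul_mem _ _ (g2s_mul_mem_Hm_pm hz hx ha), ?_⟩
  rw [g2s_smul_mul, g2s_mul_mul_Hm hz h2 ha, smul_smul, inv_mul_cancel₀ (neg_ne_zero.mpr hNa),
    one_smul]

/-- Right multiplication by `a`, as a linear map. -/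
def g2s_Rmul (a : Fin 8 → F) : (Fin 8 → F) →ₗ[F] (Fin 8 → F) where
  toFun x := zornMul x a
  map_add' x y := g2s_add_mul x y a
  map_smul' c x := g2s_smul_mul c x a

theorem g2s_Rmul_apply (a x : Fin 8 → F) : g2s_Rmul a x = zornMul x a := rfl

include hz in
theorem g2s_Rmul_injective (h2 : (2 : F) ≠ 0) {a : Fin 8 → F} (ha : a ∈ g2s_Hm z)
    (hNa : g2s_N a ≠ 0) : Function.Injective (g2s_Rmul a) := by
  intro x y hxy
  have h1 : zornMul (zornMul x a) a = zornMul (zornMul y a) a := by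
    rw [← g2s_Rmul_apply a x, ← g2s_Rmul_apply a y, hxy]
  rw [g2s_mul_mul_Hm hz h2 ha, g2s_mul_mul_Hm hz h2 ha] at h1
  exact smul_right_injective _ (neg_ne_zero.mpr hNa) h1

include hz in
theorem g2s_map_Rmul_Hp (h2 : (2 : F) ≠ 0) {a : Fin 8 → F} (ha : a ∈ g2s_Hm z)
    (hNa : g2s_N a ≠ 0) : (g2s_Hp z).map (g2s_Rmul a) = g2s_Hm z := by
  ext y
  constructor
  · rintro ⟨x, hx, rfl⟩
    exact g2s_mul_mem_Hm_pm hz hx ha
  · intro hy
    obtain ⟨x, hx, rfl⟩ := g2s_Hm_eq_mul hz h2 ha hNa hy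
    exact ⟨x, hx, rfl⟩

include hz hzz in
/-- (B5) `dim O₊ = 4`. -/
theorem g2s_finrank_Hp (h2 : (2 : F) ≠ 0) (hz1 : z ≠ 1) :
    Module.finrank F (g2s_Hp z) = 4 := by
  obtain ⟨a, ha, hNa⟩ := g2s_exists_anisotropic hz hzz h2 hz1
  have h1 : Module.finrank F (g2s_Hm z) = Module.finrank F (g2s_Hp z) := by
    rw [← g2s_map_Rmul_Hp hz h2 ha hNa]
    exact (LinearEquiv.finrank_eq (Submodule.equivMapOfInjective (g2s_Rmul a)
      (g2s_Rmul_injective hz h2 ha hNa) (g2s_Hp z))).symm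
  have h3 := Submodule.finrank_sup_add_finrank_inf_eq (g2s_Hp z) (g2s_Hm z)
  rw [g2s_Hp_sup_Hm hzz h2, g2s_Hp_inf_Hm h2, finrank_bot, finrank_top, Module.finrank_fin_fun,
    h1] at h3
  omega

include hz hzz in
theorem g2s_finrank_Hm (h2 : (2 : F) ≠ 0) (hz1 : z ≠ 1) :
    Module.finrank F (g2s_Hm z) = 4 := by
  have h0 := g2s_finrank_Hp hz hzz h2 hz1
  have h3 := Submodule.finrank_sup_add_finrank_inf_eq (g2s_Hp z) (g2s_Hm z)
  rw [g2s_Hp_sup_Hm hzz h2, g2s_Hp_inf_Hm h2, finrank_bot, finrank_top, Module.finrank_fin_fun,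
    h0] at h3
  omega

end dim

end Cfsg.Agent.G2S
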