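import Mathlib

set_option autoImplicit false

/-!
S4632, package (5), abstract half.

If a finite group `K` has a subgroup `M` of odd index which has a normal `2`-complement `O` and in
which every square is a product of commutators, then `x ^ 2 ∈ ⁅P, P⁆` for every Sylow `2`-subgroup
`P` of `K` and every `x ∈ P`.
-/

namespace Cfsg.Agent.G2S

open Subgroup
open scoped Pointwise

/-- The property is invariant under conjugation. -/
theorem g2s_sq_mem_commutator_conj {K : Type*} [Group K] (H : Subgroup K) (g : K)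
    (h : ∀ y ∈ H, y ^ 2 ∈ ⁅H, H⁆) :
    ∀ x ∈ MulAut.conj g • H, x ^ 2 ∈ ⁅MulAut.conj g • H, MulAut.conj g • H⁆ := by
  intro x hx
  have e : MulAut.conj g • H = H.map (MulAut.conj g).toMonoidHom := rfl
  rw [e, ← Subgroup.map_commutator]
  rw [e] at hx
  obtain ⟨y, hy, rfl⟩ := hx
  exact ⟨y ^ 2, h y hy, map_pow _ _ _⟩

/-- The normal `2`-complement case: `O ⊴ M` with all elements of odd order and `M / O` a `2`-group,
all squares of `M` in the derived subgroup.  Then the same holds in a Sylow `2`-subgroup. -/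
theorem g2s_sq_mem_commutator_sylow_of_compl {M : Type*} [Group M] [Finite M] (O : Subgroup M)
    [O.Normal] (hodd : ∀ o ∈ O, Odd (orderOf o)) (h2 : ∀ m : M, ∃ k : ℕ, m ^ (2 ^ k) ∈ O)
    (hsq : ∀ g : M, g ^ 2 ∈ commutator M) (S : Sylow 2 M) :
    ∀ x ∈ (S : Subgroup M), x ^ 2 ∈ ⁅(S : Subgroup M), (S : Subgroup M)⁆ := by
  classical
  set f : ↥(S : Subgroup M) →* M ⧸ O := (QuotientGroup.mk' O).comp (S : Subgroup M).subtype with hf
  -- `f` is injective
  have hinj : Function.Injective f := by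
    rw [injective_iff_map_eq_one]
    intro x hx
    have hxO : (x : M) ∈ O := by
      have : ((x : M) : M ⧸ O) = 1 := hx
      exact (QuotientGroup.eq_one_iff _).mp this
    obtain ⟨k, hk⟩ := S.isPGroup' x
    have h1 : orderOf (x : M) ∣ 2 ^ k := by
      rw [Subgroup.orderOf_coe]
      exact orderOf_dvd_of_pow_eq_one hk
    have h3 : Odd (orderOf (x : M)) := hodd _ hxO
    have h4 : orderOf (x : M) = 1 := by
      obtain ⟨j, -, hj⟩ := (Nat.dvd_prime_pow Nat.prime_two).mp h1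
      rcases Nat.eq_zero_or_pos j with rfl | hjpos
      · simpa using hj
      · exfalso
        rw [hj] at h3
        exact (Nat.not_odd_iff_even.mpr ((Nat.even_pow' hjpos.ne').mpr even_two)) h3
    have : (x : M) = 1 := orderOf_eq_one_iff.mp h4
    exact Subtype.ext this
  -- the quotient is a `2`-group
  have hQ : IsPGroup 2 (M ⧸ O) := by
    intro q
    obtain ⟨m, rfl⟩ := QuotientGroup.mk_surjective q
    obtain ⟨k, hk⟩ := h2 m
    refine ⟨k, ?_⟩
    rw [← QuotientGroup.mk_pow]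
    exact (QuotientGroup.eq_one_iff _).mpr hk
  obtain ⟨j, hj⟩ := IsPGroup.iff_card.mp hQ
  -- `O` has odd order
  have hOodd : ¬ 2 ∣ Nat.card O := by
    intro hdvd
    have : Fact (Nat.Prime 2) := ⟨Nat.prime_two⟩
    obtain ⟨x, hx⟩ := exists_prime_orderOf_dvd_card' (G := O) 2 hdvd
    have h3 : Odd (orderOf (x : M)) := hodd _ x.2
    rw [Subgroup.orderOf_coe, hx] at h3
    exact (by decide : ¬ Odd 2) h3
  have hcard : Nat.card M = 2 ^ j * Nat.card O := by
    rw [← hj]
    exact Subgroup.card_eq_card_quotient_mul_card_subgroup O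
  have hfact : (Nat.card M).factorization 2 = j := by
    rw [hcard, Nat.factorization_mul (pow_ne_zero _ two_ne_zero) Nat.card_pos.ne',
      Nat.Prime.factorization_pow Nat.prime_two]
    simp [Nat.factorization_eq_zero_of_not_dvd hOodd]
  have hScard : Nat.card ↥(S : Subgroup M) = Nat.card (M ⧸ O) := by
    rw [hj, ← hfact]
    exact S.card_eq_multiplicity
  have hbij : Function.Bijective f := (Nat.bijective_iff_injective_and_card f).mpr ⟨hinj, hScard⟩
  -- both derived subgroups map onto the derived subgroup of the quotient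
  have hc1 : (commutator M).map (QuotientGroup.mk' O) = commutator (M ⧸ O) := by
    rw [commutator_def, commutator_def, Subgroup.map_commutator,
      Subgroup.map_top_of_surjective _ (QuotientGroup.mk'_surjective O)]
  have hc2 : (commutator ↥(S : Subgroup M)).map f = commutator (M ⧸ O) := by
    rw [commutator_def, commutator_def, Subgroup.map_commutator,
      Subgroup.map_top_of_surjective _ hbij.2]
  intro x hx
  have h5 : f (⟨x, hx⟩ ^ 2) ∈ commutator (M ⧸ O) := by
    rw [← hc1]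
    exact ⟨x ^ 2, hsq x, rfl⟩
  rw [← hc2] at h5
  obtain ⟨s, hs, hsx⟩ := h5
  have h6 : s = ⟨x, hx⟩ ^ 2 := hinj hsx
  rw [← Subgroup.map_subtype_commutator]
  exact ⟨s, hs, by rw [h6]; rfl⟩

/-- **Abstract half of package (5).**  `M ≤ K` of odd index with a normal `2`-complement `O`, every
square of `M` in `⁅M, M⁆`: then every Sylow `2`-subgroup `P` of `K` has `P / P'` of exponent `≤ 2`. -/
theorem g2s_sylow_sq_mem_commutator {K : Type*} [Group K] [Finite K] (M O : Subgroup K)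
    (hnorm : ∀ m ∈ M, ∀ o ∈ O, m * o * m⁻¹ ∈ O)
    (hodd : ∀ o ∈ O, Odd (orderOf o)) (h2 : ∀ m ∈ M, ∃ k : ℕ, m ^ (2 ^ k) ∈ O)
    (hidx : Odd M.index) (hsq : ∀ g ∈ M, g ^ 2 ∈ ⁅M, M⁆) (P : Sylow 2 K) :
    ∀ x ∈ (P : Subgroup K), x ^ 2 ∈ ⁅(P : Subgroup K), (P : Subgroup K)⁆ := by
  classical
  have : Fact (Nat.Prime 2) := ⟨Nat.prime_two⟩
  -- work inside `M`
  have hON : (O.subgroupOf M).Normal := by
    refine ⟨fun o ho m => ?_⟩
    rw [Subgroup.mem_subgroupOf] at ho ⊢
    exact hnorm m m.2 o ho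
  have hodd' : ∀ o ∈ O.subgroupOf M, Odd (orderOf o) := by
    intro o ho
    rw [← Subgroup.orderOf_coe]
    exact hodd _ (Subgroup.mem_subgroupOf.mp ho)
  have h2' : ∀ m : ↥M, ∃ k : ℕ, m ^ (2 ^ k) ∈ O.subgroupOf M := by
    intro m
    obtain ⟨k, hk⟩ := h2 m m.2
    exact ⟨k, Subgroup.mem_subgroupOf.mpr (by simpa using hk)⟩
  have hsq' : ∀ g : ↥M, g ^ 2 ∈ commutator ↥M := by
    intro g
    have h := hsq g g.2
    rw [← Subgroup.map_subtype_commutator] at h
    obtain ⟨y, hy, hyg⟩ := h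
    have : y = g ^ 2 := Subtype.ext (by simpa using hyg)
    rw [← this]
    exact hy
  obtain ⟨S⟩ : Nonempty (Sylow 2 ↥M) := Sylow.nonempty
  have hS := g2s_sq_mem_commutator_sylow_of_compl (O.subgroupOf M) hodd' h2' hsq' S
  -- the image of `S` in `K` is a Sylow `2`-subgroup of `K`
  set S' : Subgroup K := (S : Subgroup ↥M).map M.subtype with hS'
  have hS'sq : ∀ y ∈ S', y ^ 2 ∈ ⁅S', S'⁆ := by
    rintro y ⟨s, hs, rfl⟩
    rw [hS', ← Subgroup.map_commutator]
    exact ⟨s ^ 2, hS s hs, map_pow _ _ _⟩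
  have hfac : (Nat.card K).factorization 2 = (Nat.card ↥M).factorization 2 := by
    rw [← Subgroup.card_mul_index M,
      Nat.factorization_mul Nat.card_pos.ne' (Nat.pos_of_ne_zero (by
        intro h0; rw [h0] at hidx; exact (by decide : ¬ Odd 0) hidx)).ne']
    have : ¬ 2 ∣ M.index := fun h => (Nat.not_even_iff_odd.mpr hidx) (even_iff_two_dvd.mpr h)
    simp [Nat.factorization_eq_zero_of_not_dvd this]
  have hcardS' : Nat.card ↥S' = 2 ^ (Nat.card K).factorization 2 := by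
    rw [hS', Subgroup.card_map_of_injective M.subtype_injective, hfac]
    exact S.card_eq_multiplicity
  set P₀ : Sylow 2 K := Sylow.ofCard S' hcardS' with hP₀
  obtain ⟨g, hg⟩ := MulAction.exists_smul_eq K P₀ P
  have hP : (P : Subgroup K) = MulAut.conj g • S' := by
    rw [← hg]
    rfl
  rw [hP]
  exact g2s_sq_mem_commutator_conj S' g hS'sq

/-- Transfer along a surjective homomorphism `π : Γ →* K` (in the application `Γ` is the group of
pairs `(c, d) ∈ GL₂(F)²` with `det c = det d` and `π` kills the scalar pairs): it suffices that the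
squares of `M ≤ Γ` lie in `⁅M, M⁆` modulo the kernel of `π`. -/
theorem g2s_sylow_of_surjective {Γ K : Type*} [Group Γ] [Finite Γ] [Group K] (π : Γ →* K)
    (hπ : Function.Surjective π) (M O : Subgroup Γ)
    (hnorm : ∀ m ∈ M, ∀ o ∈ O, m * o * m⁻¹ ∈ O)
    (hodd : ∀ o ∈ O, Odd (orderOf o)) (h2 : ∀ m ∈ M, ∃ k : ℕ, m ^ (2 ^ k) ∈ O)
    (hidx : Odd M.index) (hsq : ∀ g ∈ M, ∃ z : Γ, π z = 1 ∧ g ^ 2 * z ∈ ⁅M, M⁆) (P : Sylow 2 K) :
    ∀ x ∈ (P : Subgroup K), x ^ 2 ∈ ⁅(P : Subgroup K), (P : Subgroup K)⁆ := by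
  have : Finite K := Finite.of_surjective π hπ
  apply g2s_sylow_sq_mem_commutator (M.map π) (O.map π)
  · rintro _ ⟨m, hm, rfl⟩ _ ⟨o, ho, rfl⟩
    exact ⟨m * o * m⁻¹, hnorm m hm o ho, by simp⟩
  · rintro _ ⟨o, ho, rfl⟩
    exact Odd.of_dvd_nat (hodd o ho) (orderOf_map_dvd π o)
  · rintro _ ⟨m, hm, rfl⟩
    obtain ⟨k, hk⟩ := h2 m hm
    exact ⟨k, m ^ (2 ^ k), hk, map_pow _ _ _⟩
  · exact Odd.of_dvd_nat hidx (Subgroup.index_map_dvd M hπ)
  · rintro _ ⟨m, hm, rfl⟩
    obtain ⟨z, hz, hmz⟩ := hsq m hm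
    rw [← Subgroup.map_commutator]
    refine ⟨m ^ 2 * z, hmz, ?_⟩
    rw [map_mul, hz, mul_one, map_pow]

/-- From a subgroup `K ≥ P` (in the application the centralizer of an involution of `Z(P)`) to the
form of the conclusion of S4632. -/
theorem g2s_result_of_le {G : Type*} [Group G] (P : Sylow 2 G) (K : Subgroup G)
    (hPK : (P : Subgroup G) ≤ K)
    (h : ∀ Q : Sylow 2 ↥K, ∀ x ∈ (Q : Subgroup ↥K), x ^ 2 ∈ ⁅(Q : Subgroup ↥K), (Q : Subgroup ↥K)⁆) :
    ∀ x : ↥(P : Subgroup G), x ^ 2 ∈ commutator ↥(P : Subgroup G) := by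
  intro x
  have hQ := h (P.subtype hPK) ⟨x, hPK x.2⟩ (by
    rw [Sylow.coe_subtype, Subgroup.mem_subgroupOf]
    exact x.2)
  have h1 : (x : G) ^ 2 ∈ ⁅(P : Subgroup G), (P : Subgroup G)⁆ := by
    have h2 : ((P.subtype hPK : Sylow 2 ↥K) : Subgroup ↥K).map K.subtype = (P : Subgroup G) := by
      rw [Sylow.coe_subtype, Subgroup.subgroupOf_map_subtype]
      exact inf_eq_left.mpr hPK
    have h3 : (x : G) ^ 2 ∈ (⁅((P.subtype hPK : Sylow 2 ↥K) : Subgroup ↥K),
        ((P.subtype hPK : Sylow 2 ↥K) : Subgroup ↥K)⁆).map K.subtype := ⟨_, hQ, rfl⟩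
    rw [Subgroup.map_commutator, h2] at h3
    exact h3
  rw [← Subgroup.map_subtype_commutator] at h1
  obtain ⟨c, hc, hcx⟩ := h1
  have : c = x ^ 2 := Subtype.ext (by simpa using hcx)
  rw [← this]
  exact hc

end Cfsg.Agent.G2S
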