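import Mathlib

set_option autoImplicit false

/-!
S4632, package P6, matrix level: the similitude group `N = C ∪ Cφ` of the form `X² + Y²` in `GL₂(F)`.
`C = {c(x,y) = [[x,-y],[y,x]]}` (commutative), `Cφ = {d(x,y) = [[x,y],[y,-x]]}`.
-/

namespace Cfsg.Agent.G2S

open Matrix

variable {F : Type*} [Field F]

/-- `c(x,y) = [[x,-y],[y,x]]`. -/
def g2s6_cm (x y : F) : Matrix (Fin 2) (Fin 2) F := !![x, -y; y, x]

/-- `d(x,y) = [[x,y],[y,-x]] = c(x,y) * diag(1,-1)`. -/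
def g2s6_dm (x y : F) : Matrix (Fin 2) (Fin 2) F := !![x, y; y, -x]

theorem g2s6_cm_one : g2s6_cm (1 : F) 0 = 1 := by
  ext i j; fin_cases i <;> fin_cases j <;> simp [g2s6_cm]

theorem g2s6_cm_mul_cm (x y x' y' : F) :
    g2s6_cm x y * g2s6_cm x' y' = g2s6_cm (x * x' - y * y') (x * y' + y * x') := by
  ext i j; fin_cases i <;> fin_cases j <;> simp [g2s6_cm, Matrix.mul_apply, Fin.sum_univ_two] <;> ring

theorem g2s6_cm_mul_dm (x y x' y' : F) :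
    g2s6_cm x y * g2s6_dm x' y' = g2s6_dm (x * x' - y * y') (x * y' + y * x') := by
  ext i j; fin_cases i <;> fin_cases j <;>
    simp [g2s6_cm, g2s6_dm, Matrix.mul_apply, Fin.sum_univ_two] <;> ring

theorem g2s6_dm_mul_cm (x y x' y' : F) :
    g2s6_dm x y * g2s6_cm x' y' = g2s6_dm (x * x' + y * y') (y * x' - x * y') := by
  ext i j; fin_cases i <;> fin_cases j <;>
    simp [g2s6_cm, g2s6_dm, Matrix.mul_apply, Fin.sum_univ_two] <;> ring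

theorem g2s6_dm_mul_dm (x y x' y' : F) :
    g2s6_dm x y * g2s6_dm x' y' = g2s6_cm (x * x' + y * y') (y * x' - x * y') := by
  ext i j; fin_cases i <;> fin_cases j <;>
    simp [g2s6_cm, g2s6_dm, Matrix.mul_apply, Fin.sum_univ_two] <;> ring

theorem g2s6_det_cm (x y : F) : (g2s6_cm x y).det = x ^ 2 + y ^ 2 := by
  rw [g2s6_cm, Matrix.det_fin_two_of]; ring

theorem g2s6_det_dm (x y : F) : (g2s6_dm x y).det = -(x ^ 2 + y ^ 2) := by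
  rw [g2s6_dm, Matrix.det_fin_two_of]; ring

theorem g2s6_cm_comm (x y x' y' : F) :
    g2s6_cm x y * g2s6_cm x' y' = g2s6_cm x' y' * g2s6_cm x y := by
  rw [g2s6_cm_mul_cm, g2s6_cm_mul_cm]
  congr 1 <;> ring

theorem g2s6_cm_injective {x y x' y' : F} (h : g2s6_cm x y = g2s6_cm x' y') : x = x' ∧ y = y' := by
  have h0 := congrFun (congrFun h 0) 0
  have h1 := congrFun (congrFun h 1) 0
  simp [g2s6_cm] at h0 h1
  exact ⟨h0, h1⟩

theorem g2s6_dm_injective {x y x' y' : F} (h : g2s6_dm x y = g2s6_dm x' y') : x = x' ∧ y = y' := by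
  have h0 := congrFun (congrFun h 0) 0
  have h1 := congrFun (congrFun h 1) 0
  simp [g2s6_dm] at h0 h1
  exact ⟨h0, h1⟩

/-- The inverse of a unit of shape `c(x,y)`. -/
theorem g2s6_inv_cm (g : GL (Fin 2) F) {x y : F} (h : (g : Matrix (Fin 2) (Fin 2) F) = g2s6_cm x y) :
    x ^ 2 + y ^ 2 ≠ 0 ∧ ((g⁻¹ : GL (Fin 2) F) : Matrix (Fin 2) (Fin 2) F) =
      g2s6_cm (x / (x ^ 2 + y ^ 2)) (-y / (x ^ 2 + y ^ 2)) := by
  have hν : x ^ 2 + y ^ 2 ≠ 0 := by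
    rw [← g2s6_det_cm, ← h]
    exact (Matrix.isUnits_det_units g).ne_zero
  refine ⟨hν, ?_⟩
  apply Units.inv_eq_of_mul_eq_one_right
  rw [h, g2s6_cm_mul_cm, ← g2s6_cm_one]
  congr 1 <;> field_simp <;> ring

/-- The inverse of a unit of shape `d(x,y)`. -/
theorem g2s6_inv_dm (g : GL (Fin 2) F) {x y : F} (h : (g : Matrix (Fin 2) (Fin 2) F) = g2s6_dm x y) :
    x ^ 2 + y ^ 2 ≠ 0 ∧ ((g⁻¹ : GL (Fin 2) F) : Matrix (Fin 2) (Fin 2) F) =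
      g2s6_dm (x / (x ^ 2 + y ^ 2)) (y / (x ^ 2 + y ^ 2)) := by
  have hν : x ^ 2 + y ^ 2 ≠ 0 := by
    have h1 : (g2s6_dm x y).det ≠ 0 := by
      rw [← h]
      exact (Matrix.isUnits_det_units g).ne_zero
    rw [g2s6_det_dm] at h1
    exact fun h0 => h1 (by rw [h0, neg_zero])
  refine ⟨hν, ?_⟩
  apply Units.inv_eq_of_mul_eq_one_right
  rw [h, g2s6_dm_mul_dm, ← g2s6_cm_one]
  congr 1 <;> field_simp <;> ring

/-- The subgroup `C` of `GL₂(F)`. -/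
def g2s6_C (F : Type*) [Field F] : Subgroup (GL (Fin 2) F) where
  carrier := {g | ∃ x y : F, (g : Matrix (Fin 2) (Fin 2) F) = g2s6_cm x y}
  mul_mem' := by
    rintro a b ⟨x, y, ha⟩ ⟨x', y', hb⟩
    exact ⟨_, _, by rw [Units.val_mul, ha, hb, g2s6_cm_mul_cm]⟩
  one_mem' := ⟨1, 0, by rw [Units.val_one, g2s6_cm_one]⟩
  inv_mem' := by
    rintro a ⟨x, y, ha⟩
    exact ⟨_, _, (g2s6_inv_cm a ha).2⟩

/-- The subgroup `N = C ∪ Cφ` of `GL₂(F)`. -/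
def g2s6_N (F : Type*) [Field F] : Subgroup (GL (Fin 2) F) where
  carrier := {g | ∃ x y : F, (g : Matrix (Fin 2) (Fin 2) F) = g2s6_cm x y ∨
    (g : Matrix (Fin 2) (Fin 2) F) = g2s6_dm x y}
  mul_mem' := by
    rintro a b ⟨x, y, ha | ha⟩ ⟨x', y', hb | hb⟩
    · exact ⟨_, _, Or.inl (by rw [Units.val_mul, ha, hb, g2s6_cm_mul_cm])⟩
    · exact ⟨_, _, Or.inr (by rw [Units.val_mul, ha, hb, g2s6_cm_mul_dm])⟩
    · exact ⟨_, _, Or.inr (by rw [Units.val_mul, ha, hb, g2s6_dm_mul_cm])⟩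
    · exact ⟨_, _, Or.inl (by rw [Units.val_mul, ha, hb, g2s6_dm_mul_dm])⟩
  one_mem' := ⟨1, 0, Or.inl (by rw [Units.val_one, g2s6_cm_one])⟩
  inv_mem' := by
    rintro a ⟨x, y, ha | ha⟩
    · exact ⟨_, _, Or.inl (g2s6_inv_cm a ha).2⟩
    · exact ⟨_, _, Or.inr (g2s6_inv_dm a ha).2⟩

theorem g2s6_mem_C {g : GL (Fin 2) F} :
    g ∈ g2s6_C F ↔ ∃ x y : F, (g : Matrix (Fin 2) (Fin 2) F) = g2s6_cm x y := Iff.rfl

theorem g2s6_mem_N {g : GL (Fin 2) F} :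
    g ∈ g2s6_N F ↔ ∃ x y : F, (g : Matrix (Fin 2) (Fin 2) F) = g2s6_cm x y ∨
      (g : Matrix (Fin 2) (Fin 2) F) = g2s6_dm x y := Iff.rfl

theorem g2s6_C_le_N : g2s6_C F ≤ g2s6_N F := by
  rintro g ⟨x, y, h⟩
  exact ⟨x, y, Or.inl h⟩

/-- `C` is commutative. -/
theorem g2s6_C_comm {a b : GL (Fin 2) F} (ha : a ∈ g2s6_C F) (hb : b ∈ g2s6_C F) :
    a * b = b * a := by
  obtain ⟨x, y, ha⟩ := ha
  obtain ⟨x', y', hb⟩ := hb
  apply Units.ext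
  rw [Units.val_mul, Units.val_mul, ha, hb, g2s6_cm_comm]

/-- Squares of `N` lie in `C`. -/
theorem g2s6_sq_mem_C {n : GL (Fin 2) F} (hn : n ∈ g2s6_N F) : n ^ 2 ∈ g2s6_C F := by
  obtain ⟨x, y, h | h⟩ := hn
  · exact ⟨_, _, by rw [pow_two, Units.val_mul, h, g2s6_cm_mul_cm]⟩
  · exact ⟨_, _, by rw [pow_two, Units.val_mul, h, g2s6_dm_mul_dm]⟩

/-- `N` normalizes `C`. -/
theorem g2s6_conj_mem_C {n c : GL (Fin 2) F} (hn : n ∈ g2s6_N F) (hc : c ∈ g2s6_C F) :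
    n * c * n⁻¹ ∈ g2s6_C F := by
  obtain ⟨x, y, h | h⟩ := hn
  · exact (g2s6_C F).mul_mem ((g2s6_C F).mul_mem ⟨x, y, h⟩ hc) ((g2s6_C F).inv_mem ⟨x, y, h⟩)
  · obtain ⟨x', y', hc⟩ := hc
    obtain ⟨-, hinv⟩ := g2s6_inv_dm n h
    exact ⟨_, _, by
      rw [Units.val_mul, Units.val_mul, h, hc, hinv, g2s6_dm_mul_cm, g2s6_dm_mul_dm]⟩

end Cfsg.Agent.G2S
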