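import Mathlib
import Cfsg.Agent.G2S.SylAbs
import Cfsg.Agent.G2S.SylMat

set_option autoImplicit false

/-!
S4632, package P6: a Sylow `2`-subgroup `P` of any quotient of
`Λ = {(c,d) ∈ GL₂(F)² | det c = det d}` killing the scalar pairs has `P / P'` of exponent `≤ 2`
(`F` a finite field of odd order).  Route of the lead: `M̃ = Λ ∩ (N × N)` has odd index (helper4,
`Count.lean`), a normal `2`-complement, and all its squares are commutators modulo scalars.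
-/

namespace Cfsg.Agent.G2S

open Matrix
open scoped commutatorElement

/-- Abstract (B'): the odd part of an abelian subgroup `A`, normalised by `M` and containing all
squares of `M`, is a normal `2`-complement of `M`. -/
theorem g2s6_exists_compl {Γ : Type*} [Group Γ] [Finite Γ] (M A : Subgroup Γ)
    (hcomm : ∀ a ∈ A, ∀ b ∈ A, a * b = b * a)
    (hnormA : ∀ m ∈ M, ∀ a ∈ A, m * a * m⁻¹ ∈ A) (hsqA : ∀ m ∈ M, m ^ 2 ∈ A) :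
    ∃ O : Subgroup Γ, (∀ m ∈ M, ∀ o ∈ O, m * o * m⁻¹ ∈ O) ∧ (∀ o ∈ O, Odd (orderOf o)) ∧
      ∀ m ∈ M, ∃ k : ℕ, m ^ (2 ^ k) ∈ O := by
  classical
  let O : Subgroup Γ :=
    { carrier := {a | a ∈ A ∧ Odd (orderOf a)}
      mul_mem' := by
        rintro a b ⟨ha, hao⟩ ⟨hb, hbo⟩
        refine ⟨A.mul_mem ha hb, ?_⟩
        have hc : Commute a b := hcomm a ha b hb
        have h1 : orderOf (a * b) ∣ Nat.lcm (orderOf a) (orderOf b) := hc.orderOf_mul_dvd_lcm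
        have h2 : Nat.lcm (orderOf a) (orderOf b) ∣ orderOf a * orderOf b := Nat.lcm_dvd_mul _ _
        exact Odd.of_dvd_nat (hao.mul hbo) (h1.trans h2)
      one_mem' := ⟨A.one_mem, by simp⟩
      inv_mem' := by
        rintro a ⟨ha, hao⟩
        exact ⟨A.inv_mem ha, by rwa [orderOf_inv]⟩ }
  refine ⟨O, ?_, ?_, ?_⟩
  · rintro m hm o ⟨ho, hoo⟩
    refine ⟨hnormA m hm o ho, ?_⟩
    have : orderOf (MulAut.conj m o) = orderOf o := MulEquiv.orderOf_eq _ _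
    rw [MulAut.conj_apply] at this
    rw [this]
    exact hoo
  · rintro o ⟨-, hoo⟩
    exact hoo
  · intro m hm
    have ha : m ^ 2 ∈ A := hsqA m hm
    obtain ⟨k, t, ht, hkt⟩ := Nat.exists_eq_two_pow_mul_odd (orderOf_pos (m ^ 2)).ne'
    refine ⟨k + 1, ?_⟩
    have e : m ^ (2 ^ (k + 1)) = (m ^ 2) ^ (2 ^ k) := by
      rw [← pow_mul, pow_succ, mul_comm]
    rw [e]
    refine ⟨A.pow_mem ha _, ?_⟩
    rw [orderOf_pow, hkt]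
    have hg : Nat.gcd (2 ^ k * t) (2 ^ k) = 2 ^ k := Nat.gcd_eq_right (dvd_mul_right _ _)
    rw [hg, Nat.mul_div_cancel_left _ (pow_pos two_pos _)]
    exact ht


variable {F : Type*} [Field F]

theorem g2s6_cm_smul (a : F) : g2s6_cm a 0 = a • (1 : Matrix (Fin 2) (Fin 2) F) := by
  ext i j; fin_cases i <;> fin_cases j <;> simp [g2s6_cm]

theorem g2s6_id1 (x y ν : F) (h : x ^ 2 + y ^ 2 = ν) (hν : ν ≠ 0) :
    g2s6_cm x y * g2s6_cm x y * g2s6_cm ν⁻¹ 0 * g2s6_dm 1 0 * g2s6_cm x y =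
      g2s6_cm x y * g2s6_dm 1 0 := by
  subst h
  simp only [g2s6_cm_mul_cm, g2s6_cm_mul_dm, g2s6_dm_mul_cm]
  congr 1 <;> field_simp <;> ring

theorem g2s6_id2 (x y ν : F) (h : x ^ 2 + y ^ 2 = ν) (hν : ν ≠ 0) :
    g2s6_dm x y * g2s6_dm x y * g2s6_cm ν⁻¹ 0 = 1 := by
  subst h
  simp only [g2s6_cm_mul_cm, g2s6_dm_mul_dm]
  rw [← g2s6_cm_one]
  congr 1 <;> field_simp <;> ring

theorem g2s6_id3 (x y ν : F) (h : x ^ 2 + y ^ 2 = -ν) (hν : ν ≠ 0) :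
    g2s6_cm x y * g2s6_cm x y * g2s6_cm ν⁻¹ 0 * g2s6_dm 1 0 * g2s6_cm (-y) x =
      g2s6_cm (-y) x * g2s6_dm 1 0 := by
  have hν' : ν = -(x ^ 2 + y ^ 2) := by rw [h, neg_neg]
  subst hν'
  have h0 : x ^ 2 + y ^ 2 ≠ 0 := fun h0 => hν (by rw [h0, neg_zero])
  simp only [g2s6_cm_mul_cm, g2s6_cm_mul_dm, g2s6_dm_mul_cm]
  congr 1 <;> field_simp <;> ring

theorem g2s6_eq_commutator {G : Type*} [Group G] {u a b : G} (h : u * b * a = a * b) :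
    u = ⁅a, b⁆ := by
  rw [commutatorElement_def]
  have h1 : u = a * b * (b * a)⁻¹ := by
    rw [eq_mul_inv_iff_mul_eq, ← mul_assoc]
    exact h
  rw [h1, _root_.mul_inv_rev, ← mul_assoc]

theorem g2s6_exists_neg_one [Finite F] : ∃ s t : F, s ^ 2 + t ^ 2 = -1 := by
  have : CharP F (ringChar F) := ringChar.charP F
  have : NeZero (ringChar F) := ⟨CharP.char_ne_zero_of_finite F (ringChar F)⟩
  obtain ⟨a, b, hab⟩ := CharP.sq_add_sq F (ringChar F) (-1)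
  exact ⟨a, b, by simpa using hab⟩

section pairs

variable (Λ : Subgroup (GL (Fin 2) F × GL (Fin 2) F))

/-- `M̃ = Λ ∩ (N × N)`. -/
def g2s6_M : Subgroup ↥Λ := ((g2s6_N F).prod (g2s6_N F)).subgroupOf Λ

/-- `Ã = Λ ∩ (C × C)`. -/
def g2s6_A : Subgroup ↥Λ := ((g2s6_C F).prod (g2s6_C F)).subgroupOf Λ

theorem g2s6_mem_M {p : ↥Λ} : p ∈ g2s6_M Λ ↔ p.1.1 ∈ g2s6_N F ∧ p.1.2 ∈ g2s6_N F := by
  rw [g2s6_M, Subgroup.mem_subgroupOf, Subgroup.mem_prod]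

theorem g2s6_mem_A {p : ↥Λ} : p ∈ g2s6_A Λ ↔ p.1.1 ∈ g2s6_C F ∧ p.1.2 ∈ g2s6_C F := by
  rw [g2s6_A, Subgroup.mem_subgroupOf, Subgroup.mem_prod]

variable {Λ}

theorem g2s6_ext {p q : ↥Λ}
    (h1 : (p.1.1 : Matrix (Fin 2) (Fin 2) F) = q.1.1)
    (h2 : (p.1.2 : Matrix (Fin 2) (Fin 2) F) = q.1.2) : p = q :=
  Subtype.ext (Prod.ext (Units.ext h1) (Units.ext h2))

theorem g2s6_coe_mul1 (p q : ↥Λ) :
    (((p * q : ↥Λ) : GL (Fin 2) F × GL (Fin 2) F).1 : Matrix (Fin 2) (Fin 2) F) =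
      (p.1.1 : Matrix (Fin 2) (Fin 2) F) * q.1.1 := rfl

theorem g2s6_coe_mul2 (p q : ↥Λ) :
    (((p * q : ↥Λ) : GL (Fin 2) F × GL (Fin 2) F).2 : Matrix (Fin 2) (Fin 2) F) =
      (p.1.2 : Matrix (Fin 2) (Fin 2) F) * q.1.2 := rfl

variable (hΛ : ∀ p, p ∈ Λ ↔
  (p.1 : Matrix (Fin 2) (Fin 2) F).det = (p.2 : Matrix (Fin 2) (Fin 2) F).det)

include hΛ in
theorem g2s6_exists_pair (A B : Matrix (Fin 2) (Fin 2) F) (hA : A.det ≠ 0)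
    (hAB : A.det = B.det) :
    ∃ p : ↥Λ, (p.1.1 : Matrix (Fin 2) (Fin 2) F) = A ∧ (p.1.2 : Matrix (Fin 2) (Fin 2) F) = B := by
  have hB : B.det ≠ 0 := hAB ▸ hA
  exact ⟨⟨(GeneralLinearGroup.mkOfDetNeZero A hA, GeneralLinearGroup.mkOfDetNeZero B hB),
    (hΛ _).mpr hAB⟩, rfl, rfl⟩


include hΛ in
/-- (A') every square of `M̃` is, modulo a scalar pair, a commutator of elements of `M̃`. -/
theorem g2s6_sq_mod_scalar [Finite F] (g : ↥Λ) (hg : g ∈ g2s6_M Λ) :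
    ∃ z : ↥Λ, (∃ a : F, (z.1.1 : Matrix (Fin 2) (Fin 2) F) = a • 1 ∧
      (z.1.2 : Matrix (Fin 2) (Fin 2) F) = a • 1) ∧ g ^ 2 * z ∈ ⁅g2s6_M Λ, g2s6_M Λ⁆ := by
  obtain ⟨⟨x, y, h1⟩, ⟨x', y', h2⟩⟩ := (g2s6_mem_M Λ).mp hg
  have hdet := (hΛ g.1).mp g.2
  obtain ⟨s, t, hst⟩ := g2s6_exists_neg_one (F := F)
  have hφdet : (g2s6_dm (1 : F) 0).det ≠ 0 := by rw [g2s6_det_dm]; simp
  have hcdet : (g2s6_cm s t).det = (g2s6_dm (1 : F) 0).det := by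
    rw [g2s6_det_cm, g2s6_det_dm, hst]; ring
  -- the elements `(φ, φ)`, `(c₂, φ)`, `(φ, c₂)` of `M̃`
  obtain ⟨Φ, hΦ1, hΦ2⟩ := g2s6_exists_pair hΛ (g2s6_dm 1 0) (g2s6_dm 1 0) hφdet rfl
  obtain ⟨Ψ, hΨ1, hΨ2⟩ := g2s6_exists_pair hΛ (g2s6_cm s t) (g2s6_dm 1 0) (hcdet ▸ hφdet) hcdet
  obtain ⟨Ψ', hΨ'1, hΨ'2⟩ := g2s6_exists_pair hΛ (g2s6_dm 1 0) (g2s6_cm s t) hφdet hcdet.symm
  have hΦM : Φ ∈ g2s6_M Λ := (g2s6_mem_M Λ).mpr ⟨⟨1, 0, Or.inr hΦ1⟩, ⟨1, 0, Or.inr hΦ2⟩⟩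
  have hΨM : Ψ ∈ g2s6_M Λ := (g2s6_mem_M Λ).mpr ⟨⟨s, t, Or.inl hΨ1⟩, ⟨1, 0, Or.inr hΨ2⟩⟩
  have hΨ'M : Ψ' ∈ g2s6_M Λ := (g2s6_mem_M Λ).mpr ⟨⟨1, 0, Or.inr hΨ'1⟩, ⟨s, t, Or.inl hΨ'2⟩⟩
  rcases h1 with h1 | h1 <;> rcases h2 with h2 | h2
  · -- both of type `C`
    rw [h1, h2, g2s6_det_cm, g2s6_det_cm] at hdet
    have hν : x ^ 2 + y ^ 2 ≠ 0 := (g2s6_inv_cm g.1.1 h1).1
    have hzdet : (g2s6_cm (x ^ 2 + y ^ 2)⁻¹ 0).det ≠ 0 := by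
      rw [g2s6_det_cm]; simp [hν]
    obtain ⟨z, hz1, hz2⟩ := g2s6_exists_pair hΛ (g2s6_cm (x ^ 2 + y ^ 2)⁻¹ 0)
      (g2s6_cm (x ^ 2 + y ^ 2)⁻¹ 0) hzdet rfl
    refine ⟨z, ⟨(x ^ 2 + y ^ 2)⁻¹, by rw [hz1, g2s6_cm_smul], by rw [hz2, g2s6_cm_smul]⟩, ?_⟩
    have e : g ^ 2 * z = ⁅g, Φ⁆ := by
      apply g2s6_eq_commutator
      rw [pow_two]
      apply g2s6_ext
      · simp only [g2s6_coe_mul1]
        rw [h1, hz1, hΦ1]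
        exact g2s6_id1 x y _ rfl hν
      · simp only [g2s6_coe_mul2]
        rw [h2, hz2, hΦ2]
        exact g2s6_id1 x' y' _ hdet.symm hν
    rw [e]
    exact Subgroup.commutator_mem_commutator hg hΦM
  · -- type `(C, D)`
    rw [h1, h2, g2s6_det_cm, g2s6_det_dm] at hdet
    have hν : x' ^ 2 + y' ^ 2 ≠ 0 := (g2s6_inv_dm g.1.2 h2).1
    have hzdet : (g2s6_cm (x' ^ 2 + y' ^ 2)⁻¹ 0).det ≠ 0 := by
      rw [g2s6_det_cm]; simp [hν]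
    obtain ⟨z, hz1, hz2⟩ := g2s6_exists_pair hΛ (g2s6_cm (x' ^ 2 + y' ^ 2)⁻¹ 0)
      (g2s6_cm (x' ^ 2 + y' ^ 2)⁻¹ 0) hzdet rfl
    refine ⟨z, ⟨(x' ^ 2 + y' ^ 2)⁻¹, by rw [hz1, g2s6_cm_smul], by rw [hz2, g2s6_cm_smul]⟩, ?_⟩
    have hadet : (g2s6_cm (-y) x).det ≠ 0 := by
      rw [g2s6_det_cm]
      have : (-y) ^ 2 + x ^ 2 = x ^ 2 + y ^ 2 := by ring
      rw [this, hdet]
      exact neg_ne_zero.mpr hν
    obtain ⟨a, ha1, ha2⟩ := g2s6_exists_pair hΛ (g2s6_cm (-y) x) (g2s6_cm (-y) x) hadet rfl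
    have haM : a ∈ g2s6_M Λ := (g2s6_mem_M Λ).mpr ⟨⟨_, _, Or.inl ha1⟩, ⟨_, _, Or.inl ha2⟩⟩
    have e : g ^ 2 * z = ⁅a, Ψ'⁆ := by
      apply g2s6_eq_commutator
      rw [pow_two]
      apply g2s6_ext
      · simp only [g2s6_coe_mul1]
        rw [h1, hz1, hΨ'1, ha1]
        exact g2s6_id3 x y _ hdet hν
      · simp only [g2s6_coe_mul2]
        rw [h2, hz2, hΨ'2, ha2, g2s6_id2 x' y' _ rfl hν, one_mul, g2s6_cm_comm]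
    rw [e]
    exact Subgroup.commutator_mem_commutator haM hΨ'M
  · -- type `(D, C)`
    rw [h1, h2, g2s6_det_dm, g2s6_det_cm] at hdet
    have hν : x ^ 2 + y ^ 2 ≠ 0 := (g2s6_inv_dm g.1.1 h1).1
    have hzdet : (g2s6_cm (x ^ 2 + y ^ 2)⁻¹ 0).det ≠ 0 := by
      rw [g2s6_det_cm]; simp [hν]
    obtain ⟨z, hz1, hz2⟩ := g2s6_exists_pair hΛ (g2s6_cm (x ^ 2 + y ^ 2)⁻¹ 0)
      (g2s6_cm (x ^ 2 + y ^ 2)⁻¹ 0) hzdet rfl
    refine ⟨z, ⟨(x ^ 2 + y ^ 2)⁻¹, by rw [hz1, g2s6_cm_smul], by rw [hz2, g2s6_cm_smul]⟩, ?_⟩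
    have hadet : (g2s6_cm (-y') x').det ≠ 0 := by
      rw [g2s6_det_cm]
      have : (-y') ^ 2 + x' ^ 2 = x' ^ 2 + y' ^ 2 := by ring
      rw [this, ← hdet]
      exact neg_ne_zero.mpr hν
    obtain ⟨a, ha1, ha2⟩ := g2s6_exists_pair hΛ (g2s6_cm (-y') x') (g2s6_cm (-y') x') hadet rfl
    have haM : a ∈ g2s6_M Λ := (g2s6_mem_M Λ).mpr ⟨⟨_, _, Or.inl ha1⟩, ⟨_, _, Or.inl ha2⟩⟩
    have e : g ^ 2 * z = ⁅a, Ψ⁆ := by
      apply g2s6_eq_commutator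
      rw [pow_two]
      apply g2s6_ext
      · simp only [g2s6_coe_mul1]
        rw [h1, hz1, hΨ1, ha1, g2s6_id2 x y _ rfl hν, one_mul, g2s6_cm_comm]
      · simp only [g2s6_coe_mul2]
        rw [h2, hz2, hΨ2, ha2]
        exact g2s6_id3 x' y' _ hdet.symm hν
    rw [e]
    exact Subgroup.commutator_mem_commutator haM hΨM
  · -- both of type `D`
    rw [h1, h2, g2s6_det_dm, g2s6_det_dm] at hdet
    have hdet' : x ^ 2 + y ^ 2 = x' ^ 2 + y' ^ 2 := neg_injective hdet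
    have hν : x ^ 2 + y ^ 2 ≠ 0 := (g2s6_inv_dm g.1.1 h1).1
    have hzdet : (g2s6_cm (x ^ 2 + y ^ 2)⁻¹ 0).det ≠ 0 := by
      rw [g2s6_det_cm]; simp [hν]
    obtain ⟨z, hz1, hz2⟩ := g2s6_exists_pair hΛ (g2s6_cm (x ^ 2 + y ^ 2)⁻¹ 0)
      (g2s6_cm (x ^ 2 + y ^ 2)⁻¹ 0) hzdet rfl
    refine ⟨z, ⟨(x ^ 2 + y ^ 2)⁻¹, by rw [hz1, g2s6_cm_smul], by rw [hz2, g2s6_cm_smul]⟩, ?_⟩
    have e : g ^ 2 * z = 1 := by
      rw [pow_two]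
      apply g2s6_ext
      · simp only [g2s6_coe_mul1]
        rw [h1, hz1]
        exact g2s6_id2 x y _ rfl hν
      · simp only [g2s6_coe_mul2]
        rw [h2, hz2]
        exact g2s6_id2 x' y' _ hdet'.symm hν
    rw [e]
    exact Subgroup.one_mem _

/-- (B') `M̃` has a normal `2`-complement. -/
theorem g2s6_exists_compl_M [Finite F] :
    ∃ O : Subgroup ↥Λ, (∀ m ∈ g2s6_M Λ, ∀ o ∈ O, m * o * m⁻¹ ∈ O) ∧
      (∀ o ∈ O, Odd (orderOf o)) ∧ ∀ m ∈ g2s6_M Λ, ∃ k : ℕ, m ^ (2 ^ k) ∈ O := by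
  have : Finite ↥Λ := inferInstance
  apply g2s6_exists_compl (g2s6_M Λ) (g2s6_A Λ)
  · intro a ha b hb
    obtain ⟨ha1, ha2⟩ := (g2s6_mem_A Λ).mp ha
    obtain ⟨hb1, hb2⟩ := (g2s6_mem_A Λ).mp hb
    exact Subtype.ext (Prod.ext (g2s6_C_comm ha1 hb1) (g2s6_C_comm ha2 hb2))
  · intro m hm a ha
    obtain ⟨hm1, hm2⟩ := (g2s6_mem_M Λ).mp hm
    obtain ⟨ha1, ha2⟩ := (g2s6_mem_A Λ).mp ha
    exact (g2s6_mem_A Λ).mpr ⟨g2s6_conj_mem_C hm1 ha1, g2s6_conj_mem_C hm2 ha2⟩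
  · intro m hm
    obtain ⟨hm1, hm2⟩ := (g2s6_mem_M Λ).mp hm
    exact (g2s6_mem_A Λ).mpr ⟨g2s6_sq_mem_C hm1, g2s6_sq_mem_C hm2⟩

include hΛ in
/-- **P6, parametric form**: given that `M̃` has odd index in `Λ` (helper4's count), every Sylow
`2`-subgroup `P₀` of the image of a homomorphism `π` of `Λ` killing the scalar pairs satisfies
`x ^ 2 ∈ ⁅P₀, P₀⁆`. -/
theorem g2s6_range_sylow [Finite F] (hidx : Odd (g2s6_M Λ).index) {G' : Type*} [Group G']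
    (π : ↥Λ →* G')
    (hker : ∀ p : ↥Λ, (∃ a : F, (p.1.1 : Matrix (Fin 2) (Fin 2) F) = a • 1 ∧
      (p.1.2 : Matrix (Fin 2) (Fin 2) F) = a • 1) → π p = 1)
    (P₀ : Sylow 2 π.range) :
    ∀ x ∈ (P₀ : Subgroup π.range), x ^ 2 ∈ ⁅(P₀ : Subgroup π.range), (P₀ : Subgroup π.range)⁆ := by
  have : Finite ↥Λ := inferInstance
  obtain ⟨O, hnorm, hodd, h2⟩ := g2s6_exists_compl_M (Λ := Λ)
  refine g2s_sylow_of_surjective π.rangeRestrict π.rangeRestrict_surjective (g2s6_M Λ) O hnorm hodd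
    h2 hidx ?_ P₀
  intro g hg
  obtain ⟨z, hz, hgz⟩ := g2s6_sq_mod_scalar hΛ g hg
  exact ⟨z, Subtype.ext (hker z hz), hgz⟩

/-- The membership criterion of `N` in the shape used by helper4's `Count.lean`. -/
theorem g2s6_mem_N_iff (c : GL (Fin 2) F) :
    c ∈ g2s6_N F ↔ ∃ x y : F, x ^ 2 + y ^ 2 ≠ 0 ∧
      ((c : Matrix (Fin 2) (Fin 2) F) = !![x, -y; y, x] ∨
        (c : Matrix (Fin 2) (Fin 2) F) = !![x, y; y, -x]) := by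
  constructor
  · rintro ⟨x, y, h | h⟩
    · exact ⟨x, y, (g2s6_inv_cm c h).1, Or.inl h⟩
    · exact ⟨x, y, (g2s6_inv_dm c h).1, Or.inr h⟩
  · rintro ⟨x, y, -, h | h⟩
    · exact ⟨x, y, Or.inl h⟩
    · exact ⟨x, y, Or.inr h⟩

end pairs

end Cfsg.Agent.G2S
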