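import Mathlib
import Cfsg.Agent.G2S.Defs
import Cfsg.Agent.G2S.SylGam
import Cfsg.Agent.G2S.Count

set_option autoImplicit false

/-!
S4632 swarm, package P6 glue: helper2's parametric `g2s6_range_sylow` + helper4's odd index count
`g2s_index_odd`, specialised to helper7's `g2s_Lam F`, in the exact shape of the stub
`g2s_range_sylow` of `notes/G2S/Stubs_helper7.lean.txt`.
-/

namespace Cfsg.Agent.G2S

open Matrix

variable {F : Type*} [Field F]

/-- The index of `M̃ = Λ ∩ (N × N)` in `Λ` is odd, for `Λ` any subgroup cut out by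
`det c = det d`. -/
theorem g2s_M_index_odd [Fintype F] (hF : Odd (Fintype.card F))
    (Λ : Subgroup (GL (Fin 2) F × GL (Fin 2) F))
    (hΛ : ∀ p, p ∈ Λ ↔
      (p.1 : Matrix (Fin 2) (Fin 2) F).det = (p.2 : Matrix (Fin 2) (Fin 2) F).det) :
    Odd (g2s6_M Λ).index :=
  g2s_index_odd hF Λ hΛ (g2s6_N F) g2s6_mem_N_iff (g2s6_M Λ) (fun _ => g2s6_mem_M Λ)

/-- **P6**: every Sylow `2`-subgroup `P₀` of the image of a homomorphism `π` of `g2s_Lam F`
killing the scalar pairs satisfies `x ^ 2 ∈ ⁅P₀, P₀⁆`. -/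
theorem g2s_range_sylow [Fintype F] (hF : Odd (Fintype.card F)) {G' : Type*} [Group G']
    (π : g2s_Lam F →* G')
    (hker : ∀ p : g2s_Lam F, (∃ a : F, (p.1.1 : Matrix (Fin 2) (Fin 2) F) = a • 1 ∧
      (p.1.2 : Matrix (Fin 2) (Fin 2) F) = a • 1) → π p = 1)
    (P₀ : Sylow 2 π.range) :
    ∀ x ∈ (P₀ : Subgroup π.range),
      x ^ 2 ∈ ⁅(P₀ : Subgroup π.range), (P₀ : Subgroup π.range)⁆ :=
  g2s6_range_sylow (Λ := g2s_Lam F) g2s_mem_Lam
    (g2s_M_index_odd hF (g2s_Lam F) g2s_mem_Lam) π hker P₀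

end Cfsg.Agent.G2S
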