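import Mathlib
import Cfsg.Agent.G2S.SylAbs

set_option autoImplicit false

/-!
S4632, package P5 (pure group theory).

(a) `g2s_exists_sylow_le_centralizer`: if `z ≠ 1` lies in a `2`-subgroup `Q ≤ C_G(z)` such that the only
elements commuting with `z` and with all of `Q` are `1` and `z`, then some Sylow `2`-subgroup of `G` lies
in `C_G(z)`.

(b) `g2s_transfer`: if some Sylow `2`-subgroup of `G` lies in `K` and every Sylow `2`-subgroup `P₀` of `K`
has all squares in `⁅P₀, P₀⁆`, then every Sylow `2`-subgroup `P` of `G` has all squares in `commutator P`.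
-/

namespace Cfsg.Agent.G2S

open Subgroup
open scoped Pointwise

/-- A Sylow `2`-subgroup of `C_G(z)` containing a `2`-subgroup `Q ∋ z` with `C_G(z) ∩ C_G(Q) = {1, z}` is a
Sylow `2`-subgroup of `G`; in particular some Sylow `2`-subgroup of `G` lies in `C_G(z)`. -/
theorem g2s_exists_sylow_le_centralizer {G : Type*} [Group G] [Finite G] (z : G) (hz1 : z ≠ 1)
    (Q : Subgroup G) (hQ : IsPGroup 2 Q) (hzQ : z ∈ Q) (hQz : Q ≤ Subgroup.centralizer {z})
    (hC : ∀ g : G, g * z = z * g → (∀ r ∈ Q, g * r = r * g) → g = 1 ∨ g = z) :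
    ∃ P : Sylow 2 G, (P : Subgroup G) ≤ Subgroup.centralizer {z} := by
  classical
  have : Fact (Nat.Prime 2) := ⟨Nat.prime_two⟩
  set K : Subgroup G := Subgroup.centralizer {z} with hK
  -- membership in `K`
  have hmemK : ∀ g : G, g ∈ K ↔ g * z = z * g := by
    intro g
    rw [hK, Subgroup.mem_centralizer_iff]
    constructor
    · intro h
      exact (h z (Set.mem_singleton z)).symm
    · intro h y hy
      rw [Set.mem_singleton_iff] at hy
      subst hy
      exact h.symm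
  -- a Sylow 2-subgroup `P₀` of `K` containing `Q`
  have hQ' : IsPGroup 2 (Q.subgroupOf K) := hQ.comap_subtype
  obtain ⟨P₀, hP₀⟩ := hQ'.exists_le_sylow
  -- its image in `G`
  set P₀' : Subgroup G := (P₀ : Subgroup K).map K.subtype with hP₀'
  have hP₀'K : P₀' ≤ K := by
    rintro _ ⟨k, _, rfl⟩
    exact k.2
  have hP₀'p : IsPGroup 2 P₀' := P₀.2.map K.subtype
  have hQP₀' : Q ≤ P₀' := by
    intro r hr
    refine ⟨⟨r, hQz hr⟩, hP₀ ?_, rfl⟩
    rw [Subgroup.mem_subgroupOf]
    exact hr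
  have hzP₀' : z ∈ P₀' := hQP₀' hzQ
  -- a Sylow 2-subgroup `P` of `G` containing `P₀'`
  obtain ⟨P, hP⟩ := hP₀'p.exists_le_sylow
  refine ⟨P, ?_⟩
  -- `P ∩ K = P₀'`
  have hPK : ∀ g : G, g ∈ (P : Subgroup G) → g ∈ K → g ∈ P₀' := by
    intro g hgP hgK
    have hp : IsPGroup 2 ((P : Subgroup G).subgroupOf K) := P.2.comap_subtype
    have hle : (P₀ : Subgroup K) ≤ (P : Subgroup G).subgroupOf K := by
      intro k hk
      rw [Subgroup.mem_subgroupOf]
      exact hP ⟨k, hk, rfl⟩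
    have heq := P₀.is_maximal' hp hle
    have : (⟨g, hgK⟩ : K) ∈ (P : Subgroup G).subgroupOf K := by
      rw [Subgroup.mem_subgroupOf]
      exact hgP
    rw [heq] at this
    exact ⟨⟨g, hgK⟩, this, rfl⟩
  -- normalizer condition inside `P`
  have : Finite (P : Subgroup G) := inferInstance
  have hnil : Group.IsNilpotent (P : Subgroup G) := P.2.isNilpotent
  have hnc : NormalizerCondition (P : Subgroup G) := Group.normalizerCondition_of_isNilpotent
  by_contra hcon
  have hlt : P₀'.subgroupOf (P : Subgroup G) < ⊤ := by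
    rw [lt_top_iff_ne_top]
    intro htop
    apply hcon
    intro g hg
    have : (⟨g, hg⟩ : (P : Subgroup G)) ∈ P₀'.subgroupOf (P : Subgroup G) := by
      rw [htop]
      exact Subgroup.mem_top _
    rw [Subgroup.mem_subgroupOf] at this
    exact hP₀'K this
  have hlt2 := hnc _ hlt
  obtain ⟨n, hnN, hnP⟩ := SetLike.exists_of_lt hlt2
  rw [Subgroup.mem_subgroupOf] at hnP
  rw [Subgroup.mem_normalizer_iff] at hnN
  -- `n` normalizes `P₀'`
  have hnorm : ∀ r : G, r ∈ P₀' → (n : G)⁻¹ * r * (n : G) ∈ P₀' := by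
    intro r hr
    have hrP : r ∈ (P : Subgroup G) := hP hr
    have h1 := (hnN (n⁻¹ * ⟨r, hrP⟩ * n)).mpr (by
      rw [Subgroup.mem_subgroupOf]
      have : ((n * (n⁻¹ * ⟨r, hrP⟩ * n) * n⁻¹ : (P : Subgroup G)) : G) = r := by
        push_cast
        group
      rw [this]
      exact hr)
    rw [Subgroup.mem_subgroupOf] at h1
    simpa using h1
  have hnorm' : (n : G) * z * (n : G)⁻¹ ∈ P₀' := by
    have h1 := (hnN ⟨z, hP hzP₀'⟩).mp (by
      rw [Subgroup.mem_subgroupOf]
      exact hzP₀')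
    rw [Subgroup.mem_subgroupOf] at h1
    simpa using h1
  -- `z` commutes with `P₀'`
  have hzc : ∀ r : G, r ∈ P₀' → r * z = z * r := fun r hr => (hmemK r).mp (hP₀'K hr)
  -- `w = n z n⁻¹` commutes with `z` and with `P₀'`
  set w : G := (n : G) * z * (n : G)⁻¹ with hw
  have hwc : ∀ r : G, r ∈ P₀' → w * r = r * w := by
    intro r hr
    have h1 := hzc _ (hnorm r hr)
    -- (n⁻¹ r n) z = z (n⁻¹ r n)
    have : w * r = (n : G) * (z * ((n : G)⁻¹ * r * (n : G))) * (n : G)⁻¹ := by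
      rw [hw]; group
    rw [this, ← h1, hw]
    group
  have hwz : w * z = z * w := hwc z hzP₀'
  rcases hC w hwz (fun r hr => hwc r (hQP₀' hr)) with h1 | h1
  · apply hz1
    have : z = (n : G)⁻¹ * w * (n : G) := by rw [hw]; group
    rw [this, h1]
    group
  · -- `n` centralizes `z`, so `n ∈ P ∩ K = P₀'`
    have hnK : (n : G) ∈ K := by
      rw [hmemK]
      have : (n : G) * z = w * (n : G) := by rw [hw]; group
      rw [this, h1]
    exact hnP (hPK (n : G) n.2 hnK)

/-- Transfer of the conclusion of S4632 from the Sylow `2`-subgroups of a subgroup `K` containing a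
Sylow `2`-subgroup of `G` to all Sylow `2`-subgroups of `G`. -/
theorem g2s_transfer {G : Type*} [Group G] [Finite G] (K : Subgroup G)
    (hex : ∃ P : Sylow 2 G, (P : Subgroup G) ≤ K)
    (hK : ∀ P₀ : Sylow 2 K, ∀ x ∈ (P₀ : Subgroup K),
      x ^ 2 ∈ ⁅(P₀ : Subgroup K), (P₀ : Subgroup K)⁆)
    (P : Sylow 2 G) : ∀ x : (P : Subgroup G), x ^ 2 ∈ commutator (P : Subgroup G) := by
  classical
  have : Fact (Nat.Prime 2) := ⟨Nat.prime_two⟩
  obtain ⟨P₁, hP₁K⟩ := hex
  -- the statement for `P₁`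
  have h1 : ∀ y ∈ (P₁ : Subgroup G), y ^ 2 ∈ ⁅(P₁ : Subgroup G), (P₁ : Subgroup G)⁆ := by
    intro y hy
    have hQ := hK (P₁.subtype hP₁K) ⟨y, hP₁K hy⟩ (by
      rw [Sylow.coe_subtype, Subgroup.mem_subgroupOf]
      exact hy)
    have h2 : ((P₁.subtype hP₁K : Sylow 2 ↥K) : Subgroup ↥K).map K.subtype = (P₁ : Subgroup G) := by
      rw [Sylow.coe_subtype, Subgroup.subgroupOf_map_subtype]
      exact inf_eq_left.mpr hP₁K
    have h3 : y ^ 2 ∈ (⁅((P₁.subtype hP₁K : Sylow 2 ↥K) : Subgroup ↥K),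
        ((P₁.subtype hP₁K : Sylow 2 ↥K) : Subgroup ↥K)⁆).map K.subtype := ⟨_, hQ, rfl⟩
    rw [Subgroup.map_commutator, h2] at h3
    exact h3
  -- conjugate to `P`
  obtain ⟨g, hg⟩ := MulAction.exists_smul_eq G P₁ P
  have hPeq : (P : Subgroup G) = MulAut.conj g • (P₁ : Subgroup G) := by
    rw [← hg]
    rfl
  have h4 := g2s_sq_mem_commutator_conj (P₁ : Subgroup G) g h1
  rw [← hPeq] at h4
  intro x
  have h5 : (x : G) ^ 2 ∈ ⁅(P : Subgroup G), (P : Subgroup G)⁆ := h4 x x.2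
  rw [← Subgroup.map_subtype_commutator] at h5
  obtain ⟨c, hc, hcx⟩ := h5
  have : c = x ^ 2 := Subtype.ext (by simpa using hcx)
  rw [← this]
  exact hc

end Cfsg.Agent.G2S
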