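import Mathlib

set_option autoImplicit false

/-!
The `2`-group `N₂ = C₂ ∪ C₂ φ` of `2 × 2` matrices over a finite field of odd order, where `C₂` is the
`2`-torsion of `F[e₀]ˣ`, `e₀ = !![0,-1;1,0]`, `φ = !![1,0;0,-1]`, and a centraliser computation.
-/

namespace Cfsg.Agent.G2S

open Matrix

variable {F : Type*} [Field F]

/-- The matrix `x + y e₀`. -/
def g2s_cx (x y : F) : Matrix (Fin 2) (Fin 2) F := !![x, -y; y, x]

/-- The matrix `φ = diag(1, -1)`. -/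
def g2s_phi (F : Type*) [Field F] : Matrix (Fin 2) (Fin 2) F := !![1, 0; 0, -1]

theorem g2s_cx_mul (x y x' y' : F) :
    g2s_cx x y * g2s_cx x' y' = g2s_cx (x * x' - y * y') (x * y' + y * x') := by
  unfold g2s_cx
  ext i j
  fin_cases i <;> fin_cases j <;> simp [Matrix.mul_apply, Fin.sum_univ_two] <;> ring

theorem g2s_cx_one : g2s_cx (1 : F) 0 = 1 := by
  unfold g2s_cx
  ext i j
  fin_cases i <;> fin_cases j <;> simp

theorem g2s_cx_det (x y : F) : (g2s_cx x y).det = x ^ 2 + y ^ 2 := by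
  unfold g2s_cx
  rw [Matrix.det_fin_two_of]
  ring

theorem g2s_cx_comm (x y x' y' : F) :
    g2s_cx x y * g2s_cx x' y' = g2s_cx x' y' * g2s_cx x y := by
  rw [g2s_cx_mul, g2s_cx_mul]
  congr 1 <;> ring

theorem g2s_phi_mul_phi : g2s_phi F * g2s_phi F = 1 := by
  unfold g2s_phi
  ext i j
  fin_cases i <;> fin_cases j <;> simp [Matrix.mul_apply, Fin.sum_univ_two]

theorem g2s_phi_det : (g2s_phi F).det = -1 := by
  unfold g2s_phi
  rw [Matrix.det_fin_two_of]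
  ring

/-- `φ c = c̄ φ`. -/
theorem g2s_phi_mul_cx (x y : F) : g2s_phi F * g2s_cx x y = g2s_cx x (-y) * g2s_phi F := by
  unfold g2s_phi g2s_cx
  ext i j
  fin_cases i <;> fin_cases j <;> simp [Matrix.mul_apply, Fin.sum_univ_two]

theorem g2s_cx_mul_phi (x y : F) : g2s_cx x y * g2s_phi F = g2s_phi F * g2s_cx x (-y) := by
  rw [g2s_phi_mul_cx, neg_neg]

/-- Conjugation by `φ`. -/
theorem g2s_phi_conj (x y : F) : g2s_phi F * g2s_cx x y * g2s_phi F = g2s_cx x (-y) := by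
  rw [g2s_phi_mul_cx, Matrix.mul_assoc, g2s_phi_mul_phi, Matrix.mul_one]

theorem g2s_cx_pow (x y : F) (n : ℕ) : ∃ x' y' : F, g2s_cx x y ^ n = g2s_cx x' y' := by
  induction n with
  | zero => exact ⟨1, 0, by rw [pow_zero, g2s_cx_one]⟩
  | succ n ih =>
    obtain ⟨x', y', h⟩ := ih
    exact ⟨_, _, by rw [pow_succ, h, g2s_cx_mul]⟩

/-- Conjugates have the same torsion. -/
theorem g2s_cx_conj_pow (x y : F) (n : ℕ) :
    g2s_cx x (-y) ^ n = g2s_phi F * g2s_cx x y ^ n * g2s_phi F := by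
  induction n with
  | zero => rw [pow_zero, pow_zero, Matrix.mul_one, g2s_phi_mul_phi]
  | succ n ih =>
    rw [pow_succ, ih, pow_succ, ← g2s_phi_conj x y]
    have h := g2s_phi_mul_phi (F := F)
    calc g2s_phi F * g2s_cx x y ^ n * g2s_phi F * (g2s_phi F * g2s_cx x y * g2s_phi F)
        = g2s_phi F * g2s_cx x y ^ n * (g2s_phi F * g2s_phi F) * g2s_cx x y * g2s_phi F := by
          simp only [Matrix.mul_assoc]
      _ = g2s_phi F * (g2s_cx x y ^ n * g2s_cx x y) * g2s_phi F := by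
          rw [h, Matrix.mul_one]
          simp only [Matrix.mul_assoc]

theorem g2s_cx_conj_torsion {x y : F} {k : ℕ} (h : g2s_cx x y ^ 2 ^ k = 1) :
    g2s_cx x (-y) ^ 2 ^ k = 1 := by
  rw [g2s_cx_conj_pow, h, Matrix.mul_one, g2s_phi_mul_phi]

theorem g2s_cx_mul_torsion {x y x' y' : F} {k k' : ℕ} (h : g2s_cx x y ^ 2 ^ k = 1)
    (h' : g2s_cx x' y' ^ 2 ^ k' = 1) : (g2s_cx x y * g2s_cx x' y') ^ 2 ^ (k + k') = 1 := by
  have hc : Commute (g2s_cx x y) (g2s_cx x' y') := g2s_cx_comm x y x' y'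
  rw [hc.mul_pow, pow_add, pow_mul, h, one_pow, mul_comm (2 ^ k) (2 ^ k'), pow_mul, h', one_pow,
    mul_one]

/-- A matrix commuting with `e₀` lies in `F[e₀]`. -/
theorem g2s_eq_cx_of_comm {m : Matrix (Fin 2) (Fin 2) F}
    (h : m * g2s_cx 0 1 = g2s_cx 0 1 * m) : m = g2s_cx (m 0 0) (m 1 0) := by
  have h00 := congrFun (congrFun h 0) 0
  have h01 := congrFun (congrFun h 0) 1
  simp [g2s_cx, Matrix.mul_apply, Fin.sum_univ_two] at h00 h01
  unfold g2s_cx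
  ext i j
  fin_cases i <;> fin_cases j <;> simp
  · rw [h00]
  · rw [← h01]

/-- Membership in `N₂ = C₂ ∪ C₂ φ`, for matrices. -/
def g2s_InN2 (m : Matrix (Fin 2) (Fin 2) F) : Prop :=
  ∃ x y : F, (∃ k : ℕ, g2s_cx x y ^ 2 ^ k = 1) ∧ (m = g2s_cx x y ∨ m = g2s_cx x y * g2s_phi F)

theorem g2s_InN2_one : g2s_InN2 (1 : Matrix (Fin 2) (Fin 2) F) :=
  ⟨1, 0, ⟨0, by rw [g2s_cx_one, one_pow]⟩, Or.inl g2s_cx_one.symm⟩

theorem g2s_InN2_mul {m m' : Matrix (Fin 2) (Fin 2) F} (h : g2s_InN2 m) (h' : g2s_InN2 m') :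
    g2s_InN2 (m * m') := by
  obtain ⟨x, y, ⟨k, hk⟩, hm⟩ := h
  obtain ⟨x', y', ⟨k', hk'⟩, hm'⟩ := h'
  have hk'c := g2s_cx_conj_torsion hk'
  rcases hm with rfl | rfl <;> rcases hm' with rfl | rfl
  · refine ⟨x * x' - y * y', x * y' + y * x', ⟨k + k', ?_⟩, Or.inl (g2s_cx_mul x y x' y')⟩
    rw [← g2s_cx_mul]
    exact g2s_cx_mul_torsion hk hk'
  · refine ⟨x * x' - y * y', x * y' + y * x', ⟨k + k', ?_⟩, Or.inr ?_⟩
    · rw [← g2s_cx_mul]
      exact g2s_cx_mul_torsion hk hk'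
    · rw [← g2s_cx_mul, Matrix.mul_assoc]
  · refine ⟨x * x' - y * -y', x * -y' + y * x', ⟨k + k', ?_⟩, Or.inr ?_⟩
    · rw [← g2s_cx_mul x y x' (-y')]
      exact g2s_cx_mul_torsion hk hk'c
    · rw [← g2s_cx_mul x y x' (-y'), Matrix.mul_assoc, g2s_phi_mul_cx, Matrix.mul_assoc]
  · refine ⟨x * x' - y * -y', x * -y' + y * x', ⟨k + k', ?_⟩, Or.inl ?_⟩
    · rw [← g2s_cx_mul x y x' (-y')]
      exact g2s_cx_mul_torsion hk hk'c
    · rw [← g2s_cx_mul x y x' (-y')]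
      calc g2s_cx x y * g2s_phi F * (g2s_cx x' y' * g2s_phi F)
          = g2s_cx x y * (g2s_phi F * g2s_cx x' y' * g2s_phi F) := by
            simp only [Matrix.mul_assoc]
        _ = g2s_cx x y * g2s_cx x' (-y') := by rw [g2s_phi_conj]

/-- Every element of `N₂` has `2`-power order. -/
theorem g2s_InN2_torsion {m : Matrix (Fin 2) (Fin 2) F} (h : g2s_InN2 m) :
    ∃ K : ℕ, m ^ 2 ^ K = 1 := by
  obtain ⟨x, y, ⟨k, hk⟩, hm⟩ := h
  rcases hm with rfl | rfl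
  · exact ⟨k, hk⟩
  · refine ⟨(k + k) + 1, ?_⟩
    have hsq : (g2s_cx x y * g2s_phi F) ^ 2 = g2s_cx x y * g2s_cx x (-y) := by
      rw [pow_two]
      calc g2s_cx x y * g2s_phi F * (g2s_cx x y * g2s_phi F)
          = g2s_cx x y * (g2s_phi F * g2s_cx x y * g2s_phi F) := by
            simp only [Matrix.mul_assoc]
        _ = g2s_cx x y * g2s_cx x (-y) := by rw [g2s_phi_conj]
    rw [pow_succ' 2 (k + k), pow_mul, hsq]
    exact g2s_cx_mul_torsion hk (g2s_cx_conj_torsion hk)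

/-- `N₂` as a submonoid of `GL₂(F)`. -/
def g2s_N2mon (F : Type*) [Field F] : Submonoid (GL (Fin 2) F) where
  carrier := {g | g2s_InN2 (g : Matrix (Fin 2) (Fin 2) F)}
  mul_mem' {a b} ha hb := by
    change g2s_InN2 ((a * b : GL (Fin 2) F) : Matrix (Fin 2) (Fin 2) F)
    rw [Units.val_mul]
    exact g2s_InN2_mul ha hb
  one_mem' := by
    change g2s_InN2 ((1 : GL (Fin 2) F) : Matrix (Fin 2) (Fin 2) F)
    rw [Units.val_one]
    exact g2s_InN2_one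

theorem g2s_N2mon_torsion {g : GL (Fin 2) F} (hg : g ∈ g2s_N2mon F) : ∃ K : ℕ, g ^ 2 ^ K = 1 := by
  obtain ⟨K, hK⟩ := g2s_InN2_torsion hg
  refine ⟨K, ?_⟩
  apply Units.ext
  rw [Units.val_pow_eq_pow_val, hK, Units.val_one]

/-- `N₂` as a subgroup of `GL₂(F)`. -/
def g2s_N2 (F : Type*) [Field F] : Subgroup (GL (Fin 2) F) where
  toSubmonoid := g2s_N2mon F
  inv_mem' {g} hg := by
    obtain ⟨K, hK⟩ := g2s_N2mon_torsion hg
    have hinv : g⁻¹ = g ^ (2 ^ K - 1) := by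
      rw [inv_eq_iff_mul_eq_one, ← pow_succ', Nat.sub_add_cancel Nat.one_le_two_pow, hK]
    rw [hinv]
    exact (g2s_N2mon F).pow_mem hg _

theorem g2s_mem_N2_iff {g : GL (Fin 2) F} :
    g ∈ g2s_N2 F ↔ g2s_InN2 (g : Matrix (Fin 2) (Fin 2) F) := Iff.rfl

theorem g2s_N2_isPGroup : IsPGroup 2 (g2s_N2 F) := by
  intro g
  obtain ⟨K, hK⟩ := g2s_N2mon_torsion g.2
  exact ⟨K, Subtype.ext (by rw [Subgroup.coe_pow, hK, Subgroup.coe_one])⟩

end Cfsg.Agent.G2S
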