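import Mathlib
import Cfsg.Agent.G2S.TwoGroupA

set_option autoImplicit false

/-!
The centraliser computation for the `2`-group `N₂ × N₂` (modulo scalars).
-/

namespace Cfsg.Agent.G2S

open Matrix Polynomial

variable {F : Type*} [Field F]

theorem g2s_two_ne_zero [Fintype F] (hF : Odd (Fintype.card F)) : (2 : F) ≠ 0 := by
  apply Ring.two_ne_zero
  intro h
  have := FiniteField.even_card_iff_char_two.mp h
  rw [Nat.odd_iff] at hF
  omega

theorem g2s_InN2_cx {x y : F} (h : ∃ k : ℕ, g2s_cx x y ^ 2 ^ k = 1) : g2s_InN2 (g2s_cx x y) :=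
  ⟨x, y, h, Or.inl rfl⟩

/-- `e₀ ∈ N₂`. -/
theorem g2s_InN2_e0 : g2s_InN2 (g2s_cx (0 : F) 1) := by
  apply g2s_InN2_cx
  refine ⟨2, ?_⟩
  have h1 : g2s_cx (0 : F) 1 ^ 2 = g2s_cx (-1) 0 := by
    rw [pow_two, g2s_cx_mul]
    congr 1 <;> ring
  have h2 : g2s_cx (-1 : F) 0 ^ 2 = 1 := by
    rw [pow_two, g2s_cx_mul, ← g2s_cx_one]
    congr 1 <;> ring
  have : (2 : ℕ) ^ 2 = 2 * 2 := by norm_num
  rw [this, pow_mul, h1, h2]

/-- `φ ∈ N₂`. -/
theorem g2s_InN2_phi : g2s_InN2 (g2s_phi F) :=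
  ⟨1, 0, ⟨0, by rw [g2s_cx_one, one_pow]⟩, Or.inr (by rw [g2s_cx_one, Matrix.one_mul])⟩

/-- `-1 ∈ N₂`. -/
theorem g2s_InN2_neg_one : g2s_InN2 (-1 : Matrix (Fin 2) (Fin 2) F) := by
  have e : (-1 : Matrix (Fin 2) (Fin 2) F) = g2s_cx (-1) 0 := by
    unfold g2s_cx
    ext i j
    fin_cases i <;> fin_cases j <;> simp
  rw [e]
  apply g2s_InN2_cx
  refine ⟨1, ?_⟩
  rw [pow_one, pow_two, g2s_cx_mul, ← g2s_cx_one]
  congr 1 <;> ring

/-- There is an element of `C₂` of determinant `-1`. -/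
theorem g2s_exists_det_neg_one [Fintype F] (hF : Odd (Fintype.card F)) :
    ∃ x y : F, (∃ k : ℕ, g2s_cx x y ^ 2 ^ k = 1) ∧ (g2s_cx x y).det = -1 := by
  classical
  have hdeg1 : degree (X ^ 2 : F[X]) = 2 := degree_X_pow 2
  have hdeg2 : degree (X ^ 2 + C (1 : F) : F[X]) = 2 := degree_X_pow_add_C (by norm_num) 1
  obtain ⟨a, b, hab⟩ := FiniteField.exists_root_sum_quadratic hdeg1 hdeg2 (Nat.odd_iff.mp hF)
  simp only [eval_pow, eval_X, eval_add, eval_C] at hab
  have hdet0 : (g2s_cx a b).det = -1 := by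
    rw [g2s_cx_det]
    linear_combination hab
  have hdet0' : IsUnit (g2s_cx a b).det := by
    rw [hdet0]
    exact isUnit_one.neg
  set g : GL (Fin 2) F := Matrix.GeneralLinearGroup.mk'' (g2s_cx a b) hdet0' with hg
  have hgv : (g : Matrix (Fin 2) (Fin 2) F) = g2s_cx a b := rfl
  have hn : orderOf g ≠ 0 := (orderOf_pos g).ne'
  obtain ⟨k, m, hm, hkm⟩ := Nat.exists_eq_two_pow_mul_odd hn
  obtain ⟨x, y, hxy⟩ := g2s_cx_pow a b m
  refine ⟨x, y, ⟨k, ?_⟩, ?_⟩
  · rw [← hxy, ← pow_mul, mul_comm, ← hkm, ← hgv, ← Units.val_pow_eq_pow_val, pow_orderOf_eq_one,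
      Units.val_one]
  · rw [← hxy, Matrix.det_pow, hdet0, hm.neg_one_pow]

/-- The centraliser modulo scalars of `N₂ × N₂` (pairs of equal determinant) in the group of
pairs of invertible matrices of equal determinant consists of the classes of `(1, ±1)`. -/
theorem g2s_N2_centralizer [Fintype F] (hF : Odd (Fintype.card F))
    (c d : Matrix (Fin 2) (Fin 2) F) (hc : c.det ≠ 0) (hcd : c.det = d.det)
    (h : ∀ r₁ r₂ : Matrix (Fin 2) (Fin 2) F, g2s_InN2 r₁ → g2s_InN2 r₂ → r₁.det = r₂.det →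
      ∃ a : F, c * r₁ = a • (r₁ * c) ∧ d * r₂ = a • (r₂ * d)) :
    ∃ a : F, c = a • 1 ∧ (d = a • 1 ∨ d = -(a • 1)) := by
  have h2 : (2 : F) ≠ 0 := g2s_two_ne_zero hF
  have hd : d.det ≠ 0 := hcd ▸ hc
  have hdete0 : (g2s_cx (0 : F) 1).det = 1 := by rw [g2s_cx_det]; ring
  -- a matrix of nonzero determinant fixed by a scalar forces the scalar to be one
  have hscal : ∀ (m : Matrix (Fin 2) (Fin 2) F) (a : F), m.det ≠ 0 → m = a • m → a = 1 := by
    intro m a hm hma
    have h1 : (1 - a) • m = 0 := by rw [sub_smul, one_smul, ← hma, sub_self]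
    have h3 := congrArg Matrix.det h1
    rw [Matrix.det_smul, Matrix.det_zero, Fintype.card_fin] at h3
    have h4 : (1 - a) ^ 2 = 0 := by
      rcases mul_eq_zero.mp h3 with h5 | h5
      · exact h5
      · exact absurd h5 hm
    have h5 : 1 - a = 0 := pow_eq_zero_iff (by norm_num) |>.mp h4
    exact (sub_eq_zero.mp h5).symm
  -- `c` and `d` commute with `e₀`
  obtain ⟨a1, hc1, hd1⟩ := h (g2s_cx 0 1) 1 g2s_InN2_e0 g2s_InN2_one (by rw [hdete0, Matrix.det_one])
  rw [Matrix.mul_one, Matrix.one_mul] at hd1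
  have ha1 : a1 = 1 := hscal d a1 hd hd1
  rw [ha1, one_smul] at hc1
  have hcx := g2s_eq_cx_of_comm hc1
  obtain ⟨a2, hc2, hd2⟩ := h 1 (g2s_cx 0 1) g2s_InN2_one g2s_InN2_e0 (by rw [hdete0, Matrix.det_one])
  rw [Matrix.mul_one, Matrix.one_mul] at hc2
  have ha2 : a2 = 1 := hscal c a2 hc hc2
  rw [ha2, one_smul] at hd2
  have hdx := g2s_eq_cx_of_comm hd2
  set x := c 0 0 with hx
  set y := c 1 0 with hy
  set x' := d 0 0 with hx'
  set y' := d 1 0 with hy'
  have hdetc : x ^ 2 + y ^ 2 ≠ 0 := by rw [← g2s_cx_det, ← hcx]; exact hc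
  have hdets : x ^ 2 + y ^ 2 = x' ^ 2 + y' ^ 2 := by
    rw [← g2s_cx_det, ← g2s_cx_det, ← hcx, ← hdx]; exact hcd
  -- the relation coming from `(φ, r₂)` for the first coordinate
  have hphi : ∀ a : F, c * g2s_phi F = a • (g2s_phi F * c) → x = a * x ∧ -y = a * y := by
    intro a ha
    rw [hcx, g2s_cx_mul_phi] at ha
    have h3 := congrArg (fun m => g2s_phi F * m) ha
    simp only [Matrix.mul_smul, ← Matrix.mul_assoc, g2s_phi_mul_phi, Matrix.one_mul] at h3
    have h00 := congrFun (congrFun h3 0) 0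
    have h10 := congrFun (congrFun h3 1) 0
    simp [g2s_cx] at h00 h10
    exact ⟨h00, h10⟩
  have hphi' : ∀ a : F, d * g2s_phi F = a • (g2s_phi F * d) → x' = a * x' ∧ -y' = a * y' := by
    intro a ha
    rw [hdx, g2s_cx_mul_phi] at ha
    have h3 := congrArg (fun m => g2s_phi F * m) ha
    simp only [Matrix.mul_smul, ← Matrix.mul_assoc, g2s_phi_mul_phi, Matrix.one_mul] at h3
    have h00 := congrFun (congrFun h3 0) 0
    have h10 := congrFun (congrFun h3 1) 0
    simp [g2s_cx] at h00 h10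
    exact ⟨h00, h10⟩
  obtain ⟨a3, hc3, hd3⟩ := h (g2s_phi F) (g2s_phi F) g2s_InN2_phi g2s_InN2_phi rfl
  obtain ⟨e1, e2⟩ := hphi a3 hc3
  obtain ⟨e1', e2'⟩ := hphi' a3 hd3
  by_cases hx0 : x = 0
  · -- the case `c = y e₀`: impossible
    exfalso
    have hy0 : y ≠ 0 := by
      intro hy0
      apply hdetc
      rw [hx0, hy0]
      ring
    obtain ⟨u, v, huv, hdetuv⟩ := g2s_exists_det_neg_one hF
    obtain ⟨a4, hc4, hd4⟩ := h (g2s_phi F) (g2s_cx u v) g2s_InN2_phi (g2s_InN2_cx huv)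
      (by rw [g2s_phi_det, hdetuv])
    obtain ⟨-, e4⟩ := hphi a4 hc4
    have ha4 : a4 = -1 := by
      have : (a4 + 1) * y = 0 := by linear_combination -e4
      rcases mul_eq_zero.mp this with h5 | h5
      · linear_combination h5
      · exact absurd h5 hy0
    rw [ha4, hdx, g2s_cx_comm u v x' y'] at hd4
    have h6 : (2 : F) • (g2s_cx x' y' * g2s_cx u v) = 0 := by
      rw [two_smul]
      nth_rewrite 1 [hd4]
      rw [neg_smul, one_smul, neg_add_cancel]
    have h7 := congrArg Matrix.det h6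
    rw [Matrix.det_smul, Matrix.det_zero, Fintype.card_fin, Matrix.det_mul, hdetuv,
      ← hdx] at h7
    rcases mul_eq_zero.mp h7 with h8 | h8
    · exact h2 (pow_eq_zero_iff (by norm_num) |>.mp h8)
    · rcases mul_eq_zero.mp h8 with h9 | h9
      · exact hd h9
      · exact absurd h9 (neg_ne_zero.mpr one_ne_zero)
  · have ha3 : a3 = 1 := by
      have : (a3 - 1) * x = 0 := by linear_combination -e1
      rcases mul_eq_zero.mp this with h5 | h5
      · linear_combination h5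
      · exact absurd h5 hx0
    rw [ha3, one_mul] at e2 e2'
    have hy0 : y = 0 := by
      have : (2 : F) * y = 0 := by linear_combination -e2
      rcases mul_eq_zero.mp this with h5 | h5
      · exact absurd h5 h2
      · exact h5
    have hy0' : y' = 0 := by
      have : (2 : F) * y' = 0 := by linear_combination -e2'
      rcases mul_eq_zero.mp this with h5 | h5
      · exact absurd h5 h2
      · exact h5
    have hsc : ∀ t : F, g2s_cx t 0 = t • (1 : Matrix (Fin 2) (Fin 2) F) := by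
      intro t
      unfold g2s_cx
      ext i j
      fin_cases i <;> fin_cases j <;> simp
    refine ⟨x, ?_, ?_⟩
    · rw [hcx, hy0, hsc]
    · rw [hy0, hy0'] at hdets
      have hsq : (x' - x) * (x' + x) = 0 := by linear_combination -hdets
      rcases mul_eq_zero.mp hsq with h5 | h5
      · left
        rw [hdx, hy0', hsc]
        congr 1
        linear_combination h5
      · right
        rw [hdx, hy0', hsc, ← neg_smul]
        congr 1
        linear_combination h5

end Cfsg.Agent.G2S
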