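import Mathlib
import Cfsg.Agent.G2S.TwoGroupB

set_option autoImplicit false

/-!
The `2`-subgroup `R = (N₂ × N₂) ∩ Λ` of the group `Λ` of pairs of invertible `2 × 2` matrices of
equal determinant, parametrically in `Λ`.
-/

namespace Cfsg.Agent.G2S

open Matrix

variable {F : Type*} [Field F]

/-- The pairs of `Λ` with both coordinates in `N₂`. -/
def g2s_Rof (Λ : Subgroup (GL (Fin 2) F × GL (Fin 2) F)) : Subgroup Λ :=
  ((g2s_N2 F).prod (g2s_N2 F)).subgroupOf Λ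

theorem g2s_mem_Rof {Λ : Subgroup (GL (Fin 2) F × GL (Fin 2) F)} {p : Λ} :
    p ∈ g2s_Rof Λ ↔ g2s_InN2 ((p : GL (Fin 2) F × GL (Fin 2) F).1 : Matrix (Fin 2) (Fin 2) F) ∧
      g2s_InN2 ((p : GL (Fin 2) F × GL (Fin 2) F).2 : Matrix (Fin 2) (Fin 2) F) := by
  unfold g2s_Rof
  rw [Subgroup.mem_subgroupOf, Subgroup.mem_prod]
  exact Iff.rfl

theorem g2s_Rof_isPGroup (Λ : Subgroup (GL (Fin 2) F × GL (Fin 2) F)) :
    IsPGroup 2 (g2s_Rof Λ) := by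
  intro p
  have hp := g2s_mem_Rof.mp p.2
  obtain ⟨K1, hK1⟩ := g2s_N2mon_torsion (g := (p.1 : GL (Fin 2) F × GL (Fin 2) F).1) hp.1
  obtain ⟨K2, hK2⟩ := g2s_N2mon_torsion (g := (p.1 : GL (Fin 2) F × GL (Fin 2) F).2) hp.2
  refine ⟨K1 + K2, ?_⟩
  apply Subtype.ext
  apply Subtype.ext
  rw [Subgroup.coe_pow, Subgroup.coe_pow, Subgroup.coe_one, Subgroup.coe_one]
  apply Prod.ext
  · rw [Prod.pow_fst, Prod.fst_one, pow_add, pow_mul, hK1, one_pow]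
  · rw [Prod.pow_snd, Prod.snd_one, pow_add, mul_comm, pow_mul, hK2, one_pow]

/-- A matrix in `N₂` is invertible. -/
theorem g2s_InN2_det_ne_zero {m : Matrix (Fin 2) (Fin 2) F} (h : g2s_InN2 m) : m.det ≠ 0 := by
  obtain ⟨K, hK⟩ := g2s_InN2_torsion h
  intro h0
  have := congrArg Matrix.det hK
  rw [Matrix.det_pow, h0, Matrix.det_one, zero_pow (by positivity)] at this
  exact zero_ne_one this

/-- The centraliser modulo scalars of `R` in `Λ` consists of the classes of `(1, ±1)`. -/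
theorem g2s_Rof_centralizer [Fintype F] (hF : Odd (Fintype.card F))
    (Λ : Subgroup (GL (Fin 2) F × GL (Fin 2) F))
    (hΛ : ∀ p : GL (Fin 2) F × GL (Fin 2) F, p ∈ Λ ↔
      (p.1 : Matrix (Fin 2) (Fin 2) F).det = (p.2 : Matrix (Fin 2) (Fin 2) F).det)
    (c d : Matrix (Fin 2) (Fin 2) F) (hc : c.det ≠ 0) (hcd : c.det = d.det)
    (h : ∀ r ∈ g2s_Rof Λ, ∃ a : F,
      c * ((r : GL (Fin 2) F × GL (Fin 2) F).1 : Matrix (Fin 2) (Fin 2) F) =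
        a • (((r : GL (Fin 2) F × GL (Fin 2) F).1 : Matrix (Fin 2) (Fin 2) F) * c) ∧
      d * ((r : GL (Fin 2) F × GL (Fin 2) F).2 : Matrix (Fin 2) (Fin 2) F) =
        a • (((r : GL (Fin 2) F × GL (Fin 2) F).2 : Matrix (Fin 2) (Fin 2) F) * d)) :
    ∃ a : F, c = a • 1 ∧ (d = a • 1 ∨ d = -(a • 1)) := by
  apply g2s_N2_centralizer hF c d hc hcd
  intro r₁ r₂ h1 h2 hdet
  have hu1 : IsUnit r₁.det := isUnit_iff_ne_zero.mpr (g2s_InN2_det_ne_zero h1)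
  have hu2 : IsUnit r₂.det := isUnit_iff_ne_zero.mpr (g2s_InN2_det_ne_zero h2)
  set g1 : GL (Fin 2) F := Matrix.GeneralLinearGroup.mk'' r₁ hu1 with hg1
  set g2 : GL (Fin 2) F := Matrix.GeneralLinearGroup.mk'' r₂ hu2 with hg2
  have hmem : (g1, g2) ∈ Λ := (hΛ (g1, g2)).mpr hdet
  have hR : (⟨(g1, g2), hmem⟩ : Λ) ∈ g2s_Rof Λ := g2s_mem_Rof.mpr ⟨h1, h2⟩
  exact h ⟨(g1, g2), hmem⟩ hR

/-- `(1, -1) ∈ R`. -/
theorem g2s_one_neg_one_mem_Rof (Λ : Subgroup (GL (Fin 2) F × GL (Fin 2) F)) (p : Λ)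
    (h1 : ((p : GL (Fin 2) F × GL (Fin 2) F).1 : Matrix (Fin 2) (Fin 2) F) = 1)
    (h2 : ((p : GL (Fin 2) F × GL (Fin 2) F).2 : Matrix (Fin 2) (Fin 2) F) = -1) :
    p ∈ g2s_Rof Λ := by
  rw [g2s_mem_Rof, h1, h2]
  exact ⟨g2s_InN2_one, g2s_InN2_neg_one⟩

end Cfsg.Agent.G2S
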