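import Mathlib
import Cfsg.Agent.G2S.Defs
import Cfsg.Agent.G2S.TwoGroupC

set_option autoImplicit false

/-!
S4632 swarm, package P4: the `2`-subgroup `R = (N₂ × N₂) ∩ Λ` of `Λ = g2s_Lam F`.
-/

namespace Cfsg.Agent.G2S

open Matrix

variable {F : Type*} [Field F]

/-- `R = (N₂ × N₂) ∩ Λ`, a `2`-subgroup of `Λ`. -/
def g2s_R (F : Type*) [Field F] : Subgroup (g2s_Lam F) := g2s_Rof (g2s_Lam F)

theorem g2s_mem_R {p : g2s_Lam F} :
    p ∈ g2s_R F ↔ g2s_InN2 ((p : GL (Fin 2) F × GL (Fin 2) F).1 : Matrix (Fin 2) (Fin 2) F) ∧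
      g2s_InN2 ((p : GL (Fin 2) F × GL (Fin 2) F).2 : Matrix (Fin 2) (Fin 2) F) :=
  g2s_mem_Rof

theorem g2s_R_isPGroup : IsPGroup 2 (g2s_R F) := g2s_Rof_isPGroup (g2s_Lam F)

/-- `(1, -1) ∈ R`. -/
theorem g2s_z0Lam_mem_R : g2s_z0Lam F ∈ g2s_R F := by
  apply g2s_one_neg_one_mem_Rof
  · simp [g2s_z0Lam]
  · simp [g2s_z0Lam]

/-- The centraliser modulo scalars of `R` in `Λ` consists of the classes of `(1, ±1)`. -/
theorem g2s_R_centralizer [Fintype F] (hF : Odd (Fintype.card F))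
    (c d : Matrix (Fin 2) (Fin 2) F) (hc : c.det ≠ 0) (hcd : c.det = d.det)
    (h : ∀ r ∈ g2s_R F, ∃ a : F,
      c * ((r : GL (Fin 2) F × GL (Fin 2) F).1 : Matrix (Fin 2) (Fin 2) F) =
        a • (((r : GL (Fin 2) F × GL (Fin 2) F).1 : Matrix (Fin 2) (Fin 2) F) * c) ∧
      d * ((r : GL (Fin 2) F × GL (Fin 2) F).2 : Matrix (Fin 2) (Fin 2) F) =
        a • (((r : GL (Fin 2) F × GL (Fin 2) F).2 : Matrix (Fin 2) (Fin 2) F) * d)) :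
    ∃ a : F, c = a • 1 ∧ (d = a • 1 ∨ d = -(a • 1)) :=
  g2s_Rof_centralizer hF (g2s_Lam F) (fun p => g2s_mem_Lam p) c d hc hcd h

end Cfsg.Agent.G2S
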