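import Cfsg.Agent.G2S.Defs

/-! S4632 swarm: `z₀ = Φ(1,-1)` is central in `Φ(Λ)` and `≠ 1` in odd characteristic. -/

set_option autoImplicit false

namespace Cfsg.Agent.G2S
open Matrix Cfsg.Lie

variable {F : Type*} [Field F]

theorem g2s_Phi_comm_z0 (p : g2s_Lam F) : g2s_Phi p * g2s_z0 = g2s_z0 * g2s_Phi p := by
  unfold g2s_z0
  rw [← map_mul, ← map_mul]
  congr 1
  apply Subtype.ext
  apply Prod.ext
  · show p.1.1 * (g2s_z0Lam F).1.1 = (g2s_z0Lam F).1.1 * p.1.1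
    simp [g2s_z0Lam]
  · show p.1.2 * (g2s_z0Lam F).1.2 = (g2s_z0Lam F).1.2 * p.1.2
    simp [g2s_z0Lam]

theorem g2s_z0_ne_one (h2 : (2 : F) ≠ 0) : (g2s_z0 : G2 F) ≠ 1 := by
  intro h
  have h1 := g2s_z0_mulVec (F := F) 0 1
  rw [h] at h1
  simp only [OneMemClass.coe_one, Units.val_one, Matrix.one_mulVec] at h1
  have h3 := (g2s_iota_inj h1).2
  have h4 := congrFun (congrFun h3 0) 0
  simp only [Matrix.one_apply_eq, Matrix.neg_apply] at h4
  apply h2
  linear_combination h4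

end Cfsg.Agent.G2S
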