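import Cfsg.Agent.G2S.Defs
import Cfsg.Agent.G2S.Z0
import Cfsg.Agent.G2S.Centralizer
import Cfsg.Agent.G2S.TwoGroup
import Cfsg.Agent.G2S.SylowCent
import Cfsg.Agent.G2S.RangeSylow

/-! S4632 swarm: final assembly.  `P ∈ Syl₂(G₂(F))`, `|F|` odd `⇒ x² ∈ P'` for all `x ∈ P`. -/

set_option autoImplicit false

namespace Cfsg.Agent.G2S
open Matrix Cfsg.Lie

variable {F : Type*} [Field F]

theorem g2s_main [Fintype F] (hF : Odd (Fintype.card F)) (P : Sylow 2 (G2 F)) :
    ∀ x : (P : Subgroup (G2 F)), x ^ 2 ∈ commutator (P : Subgroup (G2 F)) := by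
  have h2 : (2 : F) ≠ 0 := g2s_two_ne_zero hF
  have hcent : Subgroup.centralizer {(g2s_z0 : G2 F)} ≤ (g2s_Phi (F := F)).range := by
    intro g hg
    rw [Subgroup.mem_centralizer_iff] at hg
    have h1 := hg g2s_z0 (Set.mem_singleton _)
    obtain ⟨p, hp⟩ := g2s_centralizer_z0 h2 g h1.symm
    exact ⟨p, hp⟩
  have hex : ∃ P₁ : Sylow 2 (G2 F), (P₁ : Subgroup (G2 F)) ≤ (g2s_Phi (F := F)).range := by
    obtain ⟨P₁, hP₁⟩ := g2s_exists_sylow_le_centralizer (g2s_z0 : G2 F) (g2s_z0_ne_one h2)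
      ((g2s_R F).map g2s_Phi) (g2s_R_isPGroup.map _)
      ⟨g2s_z0Lam F, g2s_z0Lam_mem_R, rfl⟩
      (by
        rintro _ ⟨r, -, rfl⟩
        rw [Subgroup.mem_centralizer_iff]
        intro h hh
        rw [Set.mem_singleton_iff] at hh
        rw [hh]
        exact (g2s_Phi_comm_z0 r).symm)
      (by
        intro g hgz hgQ
        obtain ⟨p, rfl⟩ := g2s_centralizer_z0 h2 g hgz
        have hdet : (p.1.1 : Matrix (Fin 2) (Fin 2) F).det ≠ 0 := by
          have := (Matrix.isUnit_iff_isUnit_det (p.1.1 : Matrix (Fin 2) (Fin 2) F)).mp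
            p.1.1.isUnit
          exact this.ne_zero
        obtain ⟨a, hc, hd⟩ := g2s_R_centralizer hF (p.1.1 : Matrix (Fin 2) (Fin 2) F)
          (p.1.2 : Matrix (Fin 2) (Fin 2) F) hdet p.2 (by
            intro r hr
            have hcomm := hgQ (g2s_Phi r) ⟨r, hr, rfl⟩
            have hone : g2s_Phi (p * r * (r * p)⁻¹) = 1 := by
              rw [map_mul, map_inv, map_mul, map_mul, hcomm, mul_inv_cancel]
            obtain ⟨a, ha1, ha2⟩ := (g2s_Phi_eq_one_iff _).mp hone
            refine ⟨a, ?_, ?_⟩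
            · have e1 : (((p * r * (r * p)⁻¹ : g2s_Lam F).1.1 : GL (Fin 2) F) :
                  Matrix (Fin 2) (Fin 2) F) * ((r.1.1 : Matrix (Fin 2) (Fin 2) F) *
                    (p.1.1 : Matrix (Fin 2) (Fin 2) F)) =
                  (p.1.1 : Matrix (Fin 2) (Fin 2) F) * (r.1.1 : Matrix (Fin 2) (Fin 2) F) := by
                rw [← Units.val_mul, ← Units.val_mul, ← Units.val_mul]
                congr 1
                show (p.1.1 * r.1.1 * (r.1.1 * p.1.1)⁻¹) * (r.1.1 * p.1.1) = p.1.1 * r.1.1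
                rw [inv_mul_cancel_right]
              rw [← e1, ha1, Matrix.smul_mul, Matrix.one_mul]
            · have e2 : (((p * r * (r * p)⁻¹ : g2s_Lam F).1.2 : GL (Fin 2) F) :
                  Matrix (Fin 2) (Fin 2) F) * ((r.1.2 : Matrix (Fin 2) (Fin 2) F) *
                    (p.1.2 : Matrix (Fin 2) (Fin 2) F)) =
                  (p.1.2 : Matrix (Fin 2) (Fin 2) F) * (r.1.2 : Matrix (Fin 2) (Fin 2) F) := by
                rw [← Units.val_mul, ← Units.val_mul, ← Units.val_mul]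
                congr 1
                show (p.1.2 * r.1.2 * (r.1.2 * p.1.2)⁻¹) * (r.1.2 * p.1.2) = p.1.2 * r.1.2
                rw [inv_mul_cancel_right]
              rw [← e2, ha2, Matrix.smul_mul, Matrix.one_mul])
        rcases hd with hd | hd
        · left
          exact (g2s_Phi_eq_one_iff p).mpr ⟨a, hc, hd⟩
        · right
          have hone : g2s_Phi (p * (g2s_z0Lam F)⁻¹) = 1 := by
            rw [g2s_Phi_eq_one_iff]
            refine ⟨a, ?_, ?_⟩
            · show ((p.1.1 * ((g2s_z0Lam F).1.1)⁻¹ : GL (Fin 2) F) : Matrix (Fin 2) (Fin 2) F) = _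
              simp [g2s_z0Lam, hc]
            · show ((p.1.2 * ((g2s_z0Lam F).1.2)⁻¹ : GL (Fin 2) F) : Matrix (Fin 2) (Fin 2) F) = _
              simp [g2s_z0Lam, hd]
          rw [map_mul, map_inv, mul_inv_eq_one] at hone
          exact hone)
    exact ⟨P₁, hP₁.trans hcent⟩
  exact g2s_transfer _ hex
    (fun P₀ => g2s_range_sylow hF g2s_Phi (fun p hp => (g2s_Phi_eq_one_iff p).mpr hp) P₀) P

end Cfsg.Agent.G2S
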