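import Mathlib
import Cfsg.Agent.G2S.SylGam

set_option autoImplicit false

/-!
S4632, package P6, (C2): the index of `M̃ = Λ ∩ (N × N)` in `Λ` equals the index of `N × N` in
`GL₂(F) × GL₂(F)`, because `Λ` is the kernel of `θ (c,d) = det c / det d`, which is onto `Fˣ` even
on `N × N` (the form `x² + y²` represents every element of a finite field of odd order).
-/

namespace Cfsg.Agent.G2S

open Matrix

variable {F : Type*} [Field F]

/-- `θ (c, d) = det c / det d`. -/
noncomputable def g2s6_theta (F : Type*) [Field F] : GL (Fin 2) F × GL (Fin 2) F →* Fˣ :=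
  (GeneralLinearGroup.det.comp (MonoidHom.fst _ _)) *
    (GeneralLinearGroup.det.comp (MonoidHom.snd _ _))⁻¹

theorem g2s6_theta_apply (p : GL (Fin 2) F × GL (Fin 2) F) :
    g2s6_theta F p = GeneralLinearGroup.det p.1 * (GeneralLinearGroup.det p.2)⁻¹ := rfl

/-- `x² + y²` represents every element of a finite field of odd order. -/
theorem g2s6_exists_sq_add_sq [Fintype F] (hF : Odd (Fintype.card F)) (a : F) :
    ∃ x y : F, x ^ 2 + y ^ 2 = a := by
  classical
  have hf : (Polynomial.X ^ 2 : Polynomial F).degree = 2 := Polynomial.degree_X_pow 2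
  have hg : (Polynomial.X ^ 2 - Polynomial.C a : Polynomial F).degree = 2 :=
    Polynomial.degree_X_pow_sub_C (by decide) a
  obtain ⟨x, y, hxy⟩ := FiniteField.exists_root_sum_quadratic hf hg (Nat.odd_iff.mp hF)
  refine ⟨x, y, ?_⟩
  simp only [Polynomial.eval_pow, Polynomial.eval_X, Polynomial.eval_sub, Polynomial.eval_C] at hxy
  linear_combination hxy

/-- `det` maps `N` onto `Fˣ`. -/
theorem g2s6_exists_N_det [Fintype F] (hF : Odd (Fintype.card F)) (u : Fˣ) :
    ∃ n ∈ g2s6_N F, GeneralLinearGroup.det n = u := by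
  obtain ⟨x, y, hxy⟩ := g2s6_exists_sq_add_sq hF (u : F)
  have hdet : (g2s6_cm x y).det ≠ 0 := by
    rw [g2s6_det_cm, hxy]
    exact u.ne_zero
  refine ⟨GeneralLinearGroup.mkOfDetNeZero (g2s6_cm x y) hdet, ⟨x, y, Or.inl rfl⟩, ?_⟩
  apply Units.ext
  show (g2s6_cm x y).det = u
  rw [g2s6_det_cm, hxy]

section idx

variable {Λ : Subgroup (GL (Fin 2) F × GL (Fin 2) F)}
  (hΛ : ∀ p, p ∈ Λ ↔
    (p.1 : Matrix (Fin 2) (Fin 2) F).det = (p.2 : Matrix (Fin 2) (Fin 2) F).det)

include hΛ in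
theorem g2s6_Lam_eq_ker : Λ = (g2s6_theta F).ker := by
  ext p
  rw [hΛ, MonoidHom.mem_ker, g2s6_theta_apply, mul_inv_eq_one, Units.ext_iff]
  rfl

include hΛ in
/-- **(C2)** `[Λ : M̃] = [GL₂ : N]²`. -/
theorem g2s6_index_M [Fintype F] (hF : Odd (Fintype.card F)) :
    (g2s6_M Λ).index = (g2s6_N F).index * (g2s6_N F).index := by
  classical
  set NN : Subgroup (GL (Fin 2) F × GL (Fin 2) F) := (g2s6_N F).prod (g2s6_N F) with hNN
  have hker := g2s6_Lam_eq_ker hΛ
  -- `θ` is onto on `N × N`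
  have hmap : NN.map (g2s6_theta F) = ⊤ := by
    rw [eq_top_iff]
    intro u _
    obtain ⟨n, hn, hnu⟩ := g2s6_exists_N_det hF u
    refine ⟨(n, 1), ⟨hn, (g2s6_N F).one_mem⟩, ?_⟩
    rw [g2s6_theta_apply]
    simp [hnu]
  have hrange : (g2s6_theta F).range = ⊤ := by
    rw [eq_top_iff, ← hmap]
    exact Subgroup.map_le_range _ _
  have h1 : Λ.relIndex NN = Nat.card Fˣ := by
    rw [hker, Subgroup.relIndex_ker, hmap, Subgroup.card_top]
  have h2 : Λ.index = Nat.card Fˣ := by
    rw [hker, Subgroup.index_ker, hrange, Subgroup.card_top]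
  have h3 : (Λ ⊓ NN).index = Nat.card Fˣ * NN.index := by
    rw [← Subgroup.relIndex_mul_index (inf_le_right : Λ ⊓ NN ≤ NN), Subgroup.inf_relIndex_right, h1]
  have h4 : (Λ ⊓ NN).index = NN.relIndex Λ * Nat.card Fˣ := by
    rw [← Subgroup.relIndex_mul_index (inf_le_left : Λ ⊓ NN ≤ Λ), Subgroup.inf_relIndex_left, h2]
  have h5 : NN.relIndex Λ = NN.index := by
    have hpos : 0 < Nat.card Fˣ := Nat.card_pos
    have : NN.relIndex Λ * Nat.card Fˣ = NN.index * Nat.card Fˣ := by
      rw [← h4, h3, mul_comm]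
    exact Nat.eq_of_mul_eq_mul_right hpos this
  show NN.relIndex Λ = _
  rw [h5, hNN, Subgroup.index_prod]

include hΛ in
theorem g2s6_index_M_odd [Fintype F] (hF : Odd (Fintype.card F)) (hN : Odd (g2s6_N F).index) :
    Odd (g2s6_M Λ).index := by
  rw [g2s6_index_M hΛ hF]
  exact hN.mul hN

end idx

end Cfsg.Agent.G2S
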